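import Cfsg.Agent.Lib.Classical.SpectrumNine.Regular

/-!
# Element orders in the natural split extension of `Ω`
-/

set_option autoImplicit false
set_option linter.unusedSectionVars false

namespace Cfsg.Agent.Classical.SpectrumNine

open Module Polynomial Cfsg.Agent.Forms Cfsg.Agent.Forms.QuadStd Cfsg.Agent.Forms.Reflections
open Cfsg.Agent.Classical Cfsg.Agent.Classical.OmegaCrit Cfsg.Agent.Classical.OddOrthSpectrum

variable {F : Type*} [Field F] {ι : Type} [Fintype ι] [DecidableEq ι]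

/-- The natural action on the module. -/
noncomputable def phi (Q : (ι → F) → F) :
    ↥(Cfsg.Omega F Q) →* MulAut (Multiplicative (ι → F)) :=
  (MulAutMultiplicative (ι → F)).symm.toMonoidHom.comp
    ((DistribMulAction.toAddAut (LinearMap.GeneralLinearGroup F (ι → F)) (ι → F)).comp
      (Matrix.GeneralLinearGroup.toLin.toMonoidHom.comp
        ((Cfsg.isometryGroup F Q).subtype.comp (Cfsg.Omega F Q).subtype)))

/-- The split extension. -/
abbrev HGroup (Q : (ι → F) → F) : Type _ :=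
  Multiplicative (ι → F) ⋊[phi Q] ↥(Cfsg.Omega F Q)

variable [Fintype F] {Q : QuadraticForm F (ι → F)}

theorem phi_apply (h : Cfsg.Omega F ⇑Q) (v : ι → F) :
    phi ⇑Q h (Multiplicative.ofAdd v) = Multiplicative.ofAdd (act h.1 v) := by
  rfl

theorem pair_pow (h : Cfsg.Omega F ⇑Q) (v : ι → F) (m : ℕ) :
    (⟨Multiplicative.ofAdd v, h⟩ : HGroup ⇑Q) ^ m =
      ⟨Multiplicative.ofAdd ((∑ i ∈ Finset.range m, actHom Q h.1 ^ i) v), h ^ m⟩ := by
  induction m with
  | zero => rfl
  | succ m ih =>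
    rw [pow_succ, ih]
    ext
    · rw [SemidirectProduct.mul_left, phi_apply, Finset.sum_range_succ, LinearMap.add_apply,
        ← map_pow]
      rfl
    · rw [SemidirectProduct.mul_right, pow_succ]

theorem orderOf_pair {p : ℕ} [Fact p.Prime] [CharP F p] (h : Cfsg.Omega F ⇑Q) (v : ι → F) :
    ((∑ i ∈ Finset.range (orderOf h), actHom Q h.1 ^ i) v = 0 →
        orderOf (⟨Multiplicative.ofAdd v, h⟩ : HGroup ⇑Q) = orderOf h) ∧
      ((∑ i ∈ Finset.range (orderOf h), actHom Q h.1 ^ i) v ≠ 0 →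
        orderOf (⟨Multiplicative.ofAdd v, h⟩ : HGroup ⇑Q) = orderOf h * p) := by
  set x : HGroup ⇑Q := ⟨Multiplicative.ofAdd v, h⟩ with hx'
  set w := (∑ i ∈ Finset.range (orderOf h), actHom Q h.1 ^ i) v with hw
  have hkd : orderOf h ∣ orderOf x := orderOf_map_dvd SemidirectProduct.rightHom x
  have hx : x ^ orderOf h = SemidirectProduct.inl (Multiplicative.ofAdd w) := by
    rw [hx', pair_pow, pow_orderOf_eq_one, ← hw]; rfl
  have key : orderOf x = orderOf h * orderOf (Multiplicative.ofAdd w) := by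
    rw [← orderOf_injective (SemidirectProduct.inl (φ := phi ⇑Q)) SemidirectProduct.inl_injective,
      ← hx, orderOf_pow_of_dvd (orderOf_pos h).ne' hkd, Nat.mul_div_cancel' hkd]
  refine ⟨fun h0 => ?_, fun h0 => ?_⟩
  · rw [key, h0, ofAdd_zero, orderOf_one, mul_one]
  · have h1 : Multiplicative.ofAdd w ^ p = 1 := by
      rw [← ofAdd_nsmul, ← Nat.cast_smul_eq_nsmul F, CharP.cast_eq_zero, zero_smul, ofAdd_zero]
    rw [key, orderOf_eq_prime h1 (by rwa [ne_eq, ofAdd_eq_one])]

theorem exists_inl (h : Cfsg.Omega F ⇑Q) : ∃ x : HGroup ⇑Q, orderOf x = orderOf h :=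
  ⟨SemidirectProduct.inr h, orderOf_injective _ SemidirectProduct.inr_injective h⟩

theorem orderOf_omega (h : Cfsg.Omega F ⇑Q) : orderOf (actHom Q h.1) = orderOf h := by
  rw [orderOf_act, Subgroup.orderOf_coe]

theorem geom_char {R : Type*} [CommRing R] [IsDomain R] {p : ℕ} [Fact p.Prime] [CharP R p] (b : ℕ) :
    ∑ i ∈ Finset.range (p ^ b), (X : R[X]) ^ i = (X - 1) ^ (p ^ b - 1) := by
  refine mul_right_cancel₀ (X_sub_C_ne_zero (1 : R)) ?_
  rw [C_1, geom_sum_mul, ← pow_succ, Nat.sub_add_cancel (Nat.one_le_pow _ _ (Fact.out : p.Prime).pos),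
    sub_pow_char_pow, one_pow]

theorem geom_end {p : ℕ} [Fact p.Prime] [CharP F p] (T : Module.End F (ι → F)) (b : ℕ) :
    ∑ i ∈ Finset.range (p ^ b), T ^ i = (T - 1) ^ (p ^ b - 1) := by
  have h := congrArg (aeval T) (geom_char (R := F) (p := p) b)
  simpa only [map_sum, map_pow, map_sub, map_one, aeval_X] using h

theorem geom_split (T : Module.End F (ι → F)) (r n : ℕ) :
    ∑ i ∈ Finset.range (r * n), T ^ i =
      (∑ i ∈ Finset.range n, T ^ i) * ∑ j ∈ Finset.range r, (T ^ n) ^ j := by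
  induction r with
  | zero => simp
  | succ r ih =>
    rw [Nat.succ_mul, Finset.sum_range_add, ih, Finset.sum_range_succ, mul_add]
    congr 1
    rw [Finset.sum_mul, ← pow_mul, mul_comm n r]
    exact Finset.sum_congr rfl fun i _ => by rw [← pow_add, add_comm]

/-- An isometry fixing a non-singular space of even dimension `c` pointwise gives an element of
the split extension whose order absorbs `p ^ a` for `p ^ (a - 1) ≤ c`. -/
theorem coreA {p : ℕ} [Fact p.Prime] [CharP F p]
    (hQ : (QuadraticMap.polarBilin Q).Nondegenerate) (h2 : (2 : F) ≠ 0)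
    (h : Cfsg.Omega F ⇑Q) {C : Submodule F (ι → F)} (hC : Bases.NondegOn (polB Q) C)
    (hev : Even (finrank F C)) (hpos : 0 < finrank F C) (hfix : ∀ x ∈ C, act h.1 x = x) {a : ℕ}
    (ha : p ^ (a - 1) < finrank F C + 1) :
    ∃ x : HGroup ⇑Q, Nat.lcm (orderOf h) (p ^ a) ∣ orderOf x := by
  classical
  have hp : p.Prime := Fact.out
  have hpodd : Odd p := hp.odd_of_ne_two fun h' => h2 (by
    have := CharP.cast_eq_zero F p
    rw [h'] at this; exact_mod_cast this)
  have hne : C ≠ ⊥ := fun h' => by rw [h', finrank_bot] at hpos; omega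
  obtain ⟨w, hwC, hw0⟩ := nondeg_val hC rfl hne
  have hww : polB Q w w ≠ 0 := by rw [polB_self]; exact mul_ne_zero h2 hw0
  obtain ⟨hC1, -, hdim⟩ := Bases.split_anisotropic (polB Q)
    (fun u v huv => by rw [polB_symm.eq]; exact huv) hC hwC hww
  set C1 := C ⊓ LinearMap.ker (polB Q w) with hC1def
  have hle : C1 ≤ C := inf_le_left
  have hm : finrank F C1 = finrank F C - 1 := by omega
  obtain ⟨u, b, huΩ, hord, hmb, -, huz, huC, ⟨y0, hy0, hy0ne⟩, hdec⟩ :=
    exists_regular (p := p) hQ h2 hC1 hm (Nat.Even.sub_odd hpos hev odd_one)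
  set hu : Cfsg.Omega F ⇑Q := h * ⟨u, huΩ⟩ with hhu
  have hfix1 : ∀ y ∈ C1, act h.1 y = y := fun y hy => hfix y (hle hy)
  have hon : ∀ y ∈ C1, ∀ n : ℕ, (actHom Q hu.1 ^ n) y = (actHom Q u ^ n) y ∧
      (actHom Q u ^ n) y ∈ C1 := by
    intro y hy n
    induction n with
    | zero => exact ⟨rfl, hy⟩
    | succ n ih =>
      refine ⟨?_, ?_⟩
      · rw [pow_succ', pow_succ', Module.End.mul_apply, Module.End.mul_apply, ih.1]
        show act (h.1 * u) _ = act u _
        rw [act_mul, hfix1 _ (huC _ ih.2)]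
      · rw [pow_succ', Module.End.mul_apply]; exact huC _ ih.2
  have hoff : ∀ z, (∀ y ∈ C1, polB Q z y = 0) → ∀ n : ℕ,
      (actHom Q hu.1 ^ n) z = (actHom Q h.1 ^ n) z ∧
        ∀ y ∈ C1, polB Q ((actHom Q h.1 ^ n) z) y = 0 := by
    intro z hz n
    induction n with
    | zero => exact ⟨rfl, hz⟩
    | succ n ih =>
      refine ⟨?_, ?_⟩
      · rw [pow_succ', pow_succ', Module.End.mul_apply, Module.End.mul_apply, ih.1]
        show act (h.1 * u) _ = act h.1 _
        rw [act_mul, huz _ ih.2]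
      · rw [pow_succ', Module.End.mul_apply]; exact orth_of_fix h.1 hfix1 ih.2
  have hfixn : ∀ y ∈ C1, ∀ n : ℕ, (actHom Q h.1 ^ n) y = y := fun y hy n => by
    induction n with
    | zero => rfl
    | succ n ih => rw [pow_succ', Module.End.mul_apply, ih]; exact hfix1 y hy
  have hufixn : ∀ z, (∀ y ∈ C1, polB Q z y = 0) → ∀ n : ℕ, (actHom Q u ^ n) z = z :=
    fun z hz n => by
      induction n with
      | zero => rfl
      | succ n ih => rw [pow_succ', Module.End.mul_apply, ih]; exact huz z hz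
  have horder : ∀ n : ℕ, orderOf hu ∣ n ↔ orderOf h ∣ n ∧ p ^ b ∣ n := by
    intro n
    rw [← orderOf_omega, ← orderOf_omega, ← hord, ← orderOf_act u, orderOf_dvd_iff_pow_eq_one,
      orderOf_dvd_iff_pow_eq_one, orderOf_dvd_iff_pow_eq_one]
    refine ⟨fun e => ⟨LinearMap.ext fun x => ?_, LinearMap.ext fun x => ?_⟩,
      fun e => LinearMap.ext fun x => ?_⟩ <;> obtain ⟨y, hy, hz⟩ := hdec x <;>
      have hz' : ∀ y' ∈ C1, polB Q (x - y) y' = 0 := hz
    · rw [Module.End.one_apply, ← sub_add_cancel x y, map_add, hfixn y hy, ← (hoff _ hz' n).1, e,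
        Module.End.one_apply]
    · rw [Module.End.one_apply, ← sub_add_cancel x y, map_add, hufixn _ hz', ← (hon y hy n).1, e,
        Module.End.one_apply]
    · rw [Module.End.one_apply, ← sub_add_cancel x y, map_add, (hoff _ hz' n).1, (hon y hy n).1,
        e.1, e.2, Module.End.one_apply, Module.End.one_apply]
  have hh : orderOf h ∣ orderOf hu := ((horder _).1 dvd_rfl).1
  have hb : p ^ b ∣ orderOf hu := ((horder _).1 dvd_rfl).2
  by_cases hk : p ^ a ∣ orderOf hu
  · obtain ⟨x, hx⟩ := exists_inl hu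
    exact ⟨x, hx ▸ Nat.lcm_dvd hh hk⟩
  have hba : b < a := Nat.lt_of_not_ge fun h' => hk ((pow_dvd_pow p h').trans hb)
  have hpb : p ^ b = finrank F C - 1 ∧ a = b + 1 := by
    have h1 : p ^ b ≤ p ^ (a - 1) := Nat.pow_le_pow_right hp.pos (by omega)
    have h3 : finrank F C - 1 ≤ p ^ b := hm ▸ (by omega)
    obtain ⟨i, hi⟩ := hev
    obtain ⟨j, hj⟩ := hpodd.pow (n := a - 1)
    obtain ⟨l, hl⟩ := hpodd.pow (n := b)
    refine ⟨by omega, ?_⟩
    by_contra hne'
    have : p ^ b < p ^ (a - 1) := Nat.pow_lt_pow_right hp.one_lt (by omega)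
    omega
  obtain ⟨r, hr⟩ := hb
  have hr' : ¬ p ∣ r := fun hd => hk (by
    rw [hr, hpb.2, pow_succ]; exact Nat.mul_dvd_mul_left _ hd)
  have hsum : (∑ i ∈ Finset.range (orderOf hu), actHom Q hu.1 ^ i) y0 ≠ 0 := by
    have hu1 : ∀ j : ℕ, ((actHom Q u ^ p ^ b) ^ j) y0 = y0 := fun j => by
      rw [← hord, ← orderOf_act, pow_orderOf_eq_one, one_pow, Module.End.one_apply]
    have e1 : (∑ i ∈ Finset.range (orderOf hu), actHom Q hu.1 ^ i) y0 =
        (∑ i ∈ Finset.range (orderOf hu), actHom Q u ^ i) y0 := by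
      rw [LinearMap.sum_apply, LinearMap.sum_apply]
      exact Finset.sum_congr rfl fun i _ => (hon y0 hy0 i).1
    have e2 : (∑ j ∈ Finset.range r, (actHom Q u ^ p ^ b) ^ j) y0 = r • y0 := by
      rw [LinearMap.sum_apply, Finset.sum_congr rfl fun j _ => hu1 j, Finset.sum_const,
        Finset.card_range]
    rw [e1, hr, mul_comm, geom_split, Module.End.mul_apply, e2, map_nsmul,
      geom_end, hpb.1, ← Nat.cast_smul_eq_nsmul F]
    exact smul_ne_zero (fun h0 => hr' ((CharP.cast_eq_zero_iff F p r).1 h0)) hy0ne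
  refine ⟨⟨Multiplicative.ofAdd y0, hu⟩, ?_⟩
  rw [(orderOf_pair (p := p) hu y0).2 hsum]
  refine Nat.lcm_dvd (hh.trans (dvd_mul_right _ _)) ?_
  rw [hpb.2, pow_succ, hr, mul_right_comm]
  exact dvd_mul_right _ _

/-- A translation part matters only when the fixed space of the semisimple part is large. -/
theorem boost_bound {p : ℕ} [Fact p.Prime] [CharP F p]
    (hQ : (QuadraticMap.polarBilin Q).Nondegenerate) (h2 : (2 : F) ≠ 0)
    (heven : Even (Fintype.card ι)) (h : Cfsg.Omega F ⇑Q) {k a : ℕ} (hk : ¬ p ∣ k)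
    (hord : orderOf h = k * p ^ a) {s : Cfsg.Omega F ⇑Q}
    (hs : orderOf s = k) (hsj : ∃ i j, s = h ^ i ∧ orderOf (h ^ j) = p ^ a ∧ h = h ^ i * h ^ j)
    {v : ι → F} (hv : (∑ i ∈ Finset.range (orderOf h), actHom Q h.1 ^ i) v ≠ 0) :
    p ^ a < finrank F (LinearMap.ker (actHom Q s.1 - 1)) := by
  classical
  have hp : p.Prime := Fact.out
  have hkF : (k : F) ≠ 0 := fun h0 => hk ((CharP.cast_eq_zero_iff F p k).1 h0)
  obtain ⟨i, j, hsi, hju, hsu⟩ := hsj
  set T := actHom Q h.1 with hT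
  set S := actHom Q s.1 with hS'
  have hS : S ^ k = 1 := by rw [← hs, ← orderOf_omega s]; exact pow_orderOf_eq_one _
  have hco : Nat.Coprime (p ^ a) k := (hp.coprime_iff_not_dvd.2 hk).pow_left a
  have hTp : T ^ p ^ a = S ^ p ^ a := by
    rw [hT, hS', ← map_pow, ← map_pow, ← Subgroup.coe_pow, ← Subgroup.coe_pow]
    congr 2
    conv_lhs => rw [hsu, ((Commute.refl h).pow_pow i j).mul_pow, ← hju, pow_orderOf_eq_one, mul_one]
    rw [hsi, hju]
  have hTS : Commute T S := by
    rw [hS', hsi, Subgroup.coe_pow, map_pow]; exact (Commute.refl T).pow_right i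
  set C := LinearMap.ker (S - 1) with hC
  have hTC : ∀ x ∈ C, T x ∈ C := fun x hx => by
    rw [hC, LinearMap.mem_ker] at hx ⊢
    rw [← Module.End.mul_apply, ← ((hTS.sub_right (Commute.one_right T))).eq, Module.End.mul_apply,
      hx, map_zero]
  set z := (∑ l ∈ Finset.range k, (T ^ p ^ a) ^ l) v with hz
  have hval : ((T - 1) ^ (p ^ a - 1)) z ≠ 0 := by
    rw [← geom_end, hz, ← Module.End.mul_apply, ← geom_split, ← hord]
    exact hv
  have hzC : z ∈ C := by
    obtain ⟨n, hn⟩ : ∃ n, (S ^ p ^ a) ^ n = S := ⟨_, (exists_pow_eq_self_of_coprime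
      (by rw [hS', orderOf_omega, hs]; exact hco)).choose_spec⟩
    have h1 : (S ^ p ^ a) z = z := by
      have := fix_avg (k := k) (S := S ^ p ^ a) (by rw [← pow_mul, mul_comm, pow_mul, hS, one_pow]) v
      rw [avg, LinearMap.smul_apply, map_smul] at this
      rw [hz, hTp]
      exact smul_right_injective _ (inv_ne_zero hkF) this
    rw [hC, LinearMap.mem_ker, LinearMap.sub_apply, Module.End.one_apply, sub_eq_zero]
    conv_lhs => rw [← hn]
    clear hn
    induction n with
    | zero => rfl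
    | succ n ih => rw [pow_succ, Module.End.mul_apply, h1, ih]
  have hCn := nondegOn_fix hkF hS hQ (actHom_isom s.1)
  have hpar := fix_parity hkF hS hQ h2 (actHom_isom s.1) (det_of_mem_omega hQ h2 s.2)
  rw [← hC] at hCn hpar
  have hcpos : 0 < finrank F C := Submodule.one_le_finrank_iff.2 fun h0 => hval (by
    rw [h0, Submodule.mem_bot] at hzC; rw [hzC, map_zero])
  have hcev : Even (finrank F C) := by
    rw [Nat.even_iff]; have := Nat.even_iff.1 heven; omega
  have hnil : ∀ x ∈ C, ((T - (1 : F) • 1) ^ p ^ a) x = 0 := fun x hx => by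
    have hx' : S x = x := sub_eq_zero.1 (LinearMap.mem_ker.1 hx)
    have e : (T - (1 : F) • 1) ^ p ^ a = S ^ p ^ a - 1 := by
      have h := congrArg (aeval T) (sub_pow_char_pow (R := F[X]) (p := p) (n := a) X 1)
      simp only [map_sub, map_pow, map_one, aeval_X, one_pow] at h
      rw [one_smul, h, hTp]
    rw [e, LinearMap.sub_apply, Module.End.one_apply, sub_eq_zero]
    generalize p ^ a = n
    induction n with
    | zero => rfl
    | succ n ih => rw [pow_succ, Module.End.mul_apply, hx', ih]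
  have hzero := nilp_even h2 (actHom_isom h.1) (one_mul (1 : F)) hCn hTC hnil hcev hcpos le_rfl z hzC
  rw [one_smul] at hzero
  by_contra hle
  refine hval ?_
  rw [← Nat.sub_add_cancel (show finrank F C - 1 ≤ p ^ a - 1 by omega), pow_add,
    Module.End.mul_apply, hzero, map_zero]

end Cfsg.Agent.Classical.SpectrumNine
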