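import Cfsg.Agent.Lib.Classical.OddOrthSpectrumOmega
import Cfsg.Agent.Lib.Classical.SpectrumTools

/-!
# Isometries split along the fixed space of their semisimple part
-/

set_option autoImplicit false
set_option linter.unusedSectionVars false

namespace Cfsg.Agent.Classical.SpectrumNine

open Module Polynomial Cfsg.Agent.Forms Cfsg.Agent.Forms.QuadStd Cfsg.Agent.Forms.Reflections
open Cfsg.Agent.Classical Cfsg.Agent.Classical.OmegaCrit Cfsg.Agent.Classical.OddOrthSpectrum

variable {F : Type*} [Field F] [Fintype F] {ι : Type} [Fintype ι] [DecidableEq ι]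
variable {Q : QuadraticForm F (ι → F)}

/-- A finite element splits into commuting parts of orders prime to `p` and a power of `p`. -/
theorem split_order {G : Type*} [Group G] [Finite G] (p : ℕ) (hp : p.Prime) (g : G) :
    ∃ k a i j : ℕ, ¬ p ∣ k ∧ orderOf g = k * p ^ a ∧ g = g ^ i * g ^ j ∧
      orderOf (g ^ i) = k ∧ orderOf (g ^ j) = p ^ a := by
  obtain ⟨a, k, hk, he⟩ := Nat.exists_eq_pow_mul_and_not_dvd (orderOf_pos g).ne' p hp.ne_one
  have hco : Nat.Coprime k (p ^ a) := ((hp.coprime_iff_not_dvd.2 hk).symm).pow_right a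
  have hk0 : 0 < k := Nat.pos_of_ne_zero fun h => hk (h ▸ dvd_zero p)
  have hpa : 0 < p ^ a := pow_pos hp.pos a
  obtain ⟨z, hz1, hz2⟩ := Nat.chineseRemainder hco 1 0
  obtain ⟨w, hw1, hw2⟩ := Nat.chineseRemainder hco 0 1
  have hzw : z + w ≡ 1 [MOD orderOf g] := by
    rw [he, mul_comm]
    exact (Nat.modEq_and_modEq_iff_modEq_mul hco).1
      ⟨by simpa using hz1.add hw1, by simpa using hz2.add hw2⟩
  have hg : g = g ^ z * g ^ w := by
    rw [← pow_add]
    conv_lhs => rw [← pow_one g]
    exact (pow_eq_pow_iff_modEq.2 hzw).symm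
  have hz : orderOf (g ^ z) ∣ k := orderOf_dvd_of_pow_eq_one (by
    rw [← pow_mul, ← orderOf_dvd_iff_pow_eq_one, he, mul_comm z k, mul_comm (p ^ a) k]
    exact Nat.mul_dvd_mul_left k (Nat.modEq_zero_iff_dvd.1 hz2))
  have hw : orderOf (g ^ w) ∣ p ^ a := orderOf_dvd_of_pow_eq_one (by
    rw [← pow_mul, ← orderOf_dvd_iff_pow_eq_one, he, mul_comm w (p ^ a)]
    exact Nat.mul_dvd_mul_left _ (Nat.modEq_zero_iff_dvd.1 hw1))
  have hc : Commute (g ^ z) (g ^ w) := (Commute.refl g).pow_pow z w
  have h3 : orderOf (g ^ z) * orderOf (g ^ w) = k * p ^ a := by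
    rw [← hc.orderOf_mul_eq_mul_orderOf_of_coprime ((hco.coprime_dvd_left hz).coprime_dvd_right hw),
      ← hg, he, mul_comm]
  refine ⟨k, a, z, w, hk, by rw [he, mul_comm], hg, ?_, ?_⟩
  · refine Nat.dvd_antisymm hz (Nat.Coprime.dvd_of_dvd_mul_right (hco.coprime_dvd_right hw) ?_)
    rw [h3]; exact dvd_mul_right _ _
  · refine Nat.dvd_antisymm hw (Nat.Coprime.dvd_of_dvd_mul_left (hco.symm.coprime_dvd_right hz) ?_)
    rw [h3]; exact dvd_mul_left _ _

/-- A linear map preserving a non-singular form is the action of an isometry. -/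
theorem exists_iso (hQ : (QuadraticMap.polarBilin Q).Nondegenerate) (T : Module.End F (ι → F))
    (hT : ∀ x, Q (T x) = Q x) : ∃ g : Cfsg.isometryGroup F ⇑Q, actHom Q g = T := by
  have hp : ∀ x y, QuadraticMap.polar Q (T x) (T y) = QuadraticMap.polar Q x y := fun x y => by
    simp only [QuadraticMap.polar, ← map_add, hT]
  have hi : Function.Injective T := (injective_iff_map_eq_zero T).2 fun x hx => hQ.1 x fun y => by
    rw [QuadraticMap.polarBilin_apply_apply, ← hp, hx, QuadraticMap.polar_zero_left]
  refine ⟨isoOfEquiv _ (LinearEquiv.ofBijective T ⟨hi, LinearMap.injective_iff_surjective.1 hi⟩) hT,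
    LinearMap.ext fun x => ?_⟩
  show act _ x = T x
  rw [act_apply]
  exact isoOfEquiv_mulVec _ _ _ x

theorem orderOf_act (g : Cfsg.isometryGroup F ⇑Q) : orderOf (actHom Q g) = orderOf g :=
  orderOf_injective _ actHom_injective g

theorem act_Q (g : Cfsg.isometryGroup F ⇑Q) (x : (ι → F)) : Q (actHom Q g x) = Q x := act_map g x

theorem card_ne_two (h2 : (2 : F) ≠ 0) : Fintype.card F ≠ 2 := fun e => h2 (by
  have := Nat.cast_card_eq_zero F
  rw [e] at this
  exact_mod_cast this)

/-- Isometries of odd order lie in `Ω`. -/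
theorem mem_omega_of_odd (hQ : (QuadraticMap.polarBilin Q).Nondegenerate) (h2 : (2 : F) ≠ 0)
    {g : Cfsg.isometryGroup F ⇑Q} {n : ℕ} (hn : Odd n) (hg : g ^ n = 1) :
    g ∈ Cfsg.Omega F ⇑Q := by
  rw [mem_omega_iff hQ (Or.inl (card_ne_two h2))]
  obtain ⟨m, rfl⟩ := hn
  have h1 := congrArg (theta hQ (Or.inl (card_ne_two h2))) hg
  rw [map_pow, map_one, pow_succ, pow_mul] at h1
  have hsq : ∀ z : ℤˣ × ℤˣ, z ^ 2 = 1 := fun z => Prod.ext (Int.units_sq z.1) (Int.units_sq z.2)
  rwa [hsq, one_pow, one_mul] at h1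

theorem det_of_mem_omega (hQ : (QuadraticMap.polarBilin Q).Nondegenerate) (h2 : (2 : F) ≠ 0)
    {g : Cfsg.isometryGroup F ⇑Q} (hg : g ∈ Cfsg.Omega F ⇑Q) :
    LinearMap.det (actHom Q g) = 1 := by
  have hp : par g = 1 :=
    congrArg Prod.fst ((mem_omega_iff hQ (Or.inl (card_ne_two h2)) g).1 hg)
  have he : actHom Q g = Matrix.toLin' ((g : GL ι F) : Matrix ι ι F) :=
    LinearMap.ext fun x => by rw [Matrix.toLin'_apply]; exact act_apply g x
  rw [he, LinearMap.det_toLin', det_eq_par hQ (Or.inl (card_ne_two h2)), hp]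
  simp

/-- The averaging projection onto the fixed space. -/
noncomputable def avg (k : ℕ) (S : Module.End F (ι → F)) : Module.End F (ι → F) :=
  (k : F)⁻¹ • ∑ i ∈ Finset.range k, S ^ i

section Avg

variable {k : ℕ} {S : Module.End F (ι → F)} (hk : (k : F) ≠ 0) (hS : S ^ k = 1)

include hS in
theorem mul_avg : S * avg k S = avg k S := by
  rw [avg, mul_smul_comm]
  congr 1
  have h1 : S * ∑ i ∈ Finset.range k, S ^ i + 1 = (∑ i ∈ Finset.range k, S ^ i) + S ^ k := by
    rw [← Finset.sum_range_succ, Finset.mul_sum, Finset.sum_range_succ', pow_zero]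
    simp_rw [pow_succ']
  rw [hS] at h1
  exact add_right_cancel h1

include hk in
theorem avg_of_fix {x : (ι → F)} (hx : S x = x) : avg k S x = x := by
  have hp : ∀ i, (S ^ i) x = x := fun i => by
    induction i with
    | zero => rfl
    | succ i ih => rw [pow_succ, Module.End.mul_apply, hx, ih]
  rw [avg, LinearMap.smul_apply, LinearMap.sum_apply, Finset.sum_congr rfl fun i _ => hp i,
    Finset.sum_const, Finset.card_range, ← Nat.cast_smul_eq_nsmul F, smul_smul,
    inv_mul_cancel₀ hk, one_smul]

include hS in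
theorem fix_avg (x : (ι → F)) : S (avg k S x) = avg k S x := LinearMap.congr_fun (mul_avg hS) x

include hk hS in
theorem avg_idem : avg k S * avg k S = avg k S :=
  LinearMap.ext fun x => avg_of_fix hk (fix_avg hS x)

omit [Fintype F] [Fintype ι] [DecidableEq ι] in
theorem commute_avg {T : Module.End F (ι → F)} (h : Commute T S) : Commute T (avg k S) :=
  (Commute.sum_right _ _ _ fun i _ => h.pow_right i).smul_right _

include hk hS in
theorem polar_avg (hiso : Isom (polB Q) S) {x : (ι → F)} (hx : S x = x) (y : (ι → F)) :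
    polB Q x (avg k S y) = polB Q x y := by
  have hp : ∀ i, polB Q x ((S ^ i) y) = polB Q x y := fun i => by
    induction i with
    | zero => rfl
    | succ i ih => rw [pow_succ', Module.End.mul_apply]; conv_lhs => rw [← hx, hiso, ih]
  rw [avg, LinearMap.smul_apply, LinearMap.sum_apply, map_smul, map_sum,
    Finset.sum_congr rfl fun i _ => hp i, Finset.sum_const, Finset.card_range,
    ← Nat.cast_smul_eq_nsmul F, smul_smul, inv_mul_cancel₀ hk, one_smul]

include hk hS in
theorem nondegOn_fix (hQ : (QuadraticMap.polarBilin Q).Nondegenerate) (hiso : Isom (polB Q) S) :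
    Bases.NondegOn (polB Q) (LinearMap.ker (S - 1)) := fun x hx h => hQ.1 x fun y => by
  have hx' : S x = x := sub_eq_zero.1 (LinearMap.mem_ker.1 hx)
  show polB Q x y = 0
  rw [← polar_avg hk hS hiso hx' y]
  exact h _ (LinearMap.mem_ker.2 (sub_eq_zero.2 (fix_avg hS y)))

include hk hS in
/-- The fixed space of an isometry of determinant one has the parity of the whole space. -/
theorem fix_parity (hQ : (QuadraticMap.polarBilin Q).Nondegenerate) (h2 : (2 : F) ≠ 0)
    (hiso : Isom (polB Q) S) (hd : LinearMap.det S = 1) :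
    (finrank F (LinearMap.ker (S - 1)) + Fintype.card ι) % 2 = 0 := by
  set C := LinearMap.ker (S - 1) with hC
  set W := LinearMap.ker (avg k S) with hW
  have hfix : ∀ x, x ∈ C ↔ S x = x := fun x => by
    rw [hC, LinearMap.mem_ker]; exact sub_eq_zero
  have hcW : IsCompl C W := by
    constructor
    · refine Submodule.disjoint_def.2 fun x hx hx' => ?_
      rw [← avg_of_fix hk ((hfix x).1 hx)]
      exact LinearMap.mem_ker.1 hx'
    · refine codisjoint_iff_le_sup.2 fun x _ => Submodule.mem_sup.2
        ⟨avg k S x, (hfix _).2 (fix_avg hS x), x - avg k S x, ?_, by abel⟩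
      rw [hW, LinearMap.mem_ker, map_sub, avg_of_fix hk (fix_avg hS x), sub_self]
  have hCi : ∀ x ∈ C, S x ∈ C := fun x hx => by rw [(hfix x).1 hx]; exact hx
  have hWi : ∀ x ∈ W, S x ∈ W := fun x hx => by
    have h := LinearMap.congr_fun (commute_avg (k := k) (Commute.refl S)).eq x
    rw [Module.End.mul_apply, Module.End.mul_apply, LinearMap.mem_ker.1 hx, map_zero] at h
    exact LinearMap.mem_ker.2 h.symm
  have hWn : Bases.NondegOn (polB Q) W := fun x hx h => hQ.1 x fun y => by
    show polB Q x y = 0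
    have h1 : polB Q x (avg k S y) = 0 := by
      rw [← polB_symm.eq, ← polar_avg hk hS hiso (fix_avg hS y), LinearMap.mem_ker.1 hx, map_zero]
    have h2 := h (y - avg k S y) (by
      rw [hW, LinearMap.mem_ker, map_sub, avg_of_fix hk (fix_avg hS y), sub_self])
    rwa [map_sub, h1, sub_zero] at h2
  have hsum : finrank F C + finrank F W = Fintype.card ι := by
    rw [Submodule.finrank_add_eq_of_isCompl hcW, Module.finrank_pi]
  suffices h : ¬ Odd (finrank F W) by
    rw [Nat.not_odd_iff_even, Nat.even_iff] at h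
    omega
  intro ho
  have hdW : LinearMap.det (S.restrict hWi) = 1 := by
    let E := Submodule.prodEquivOfIsCompl C W hcW
    have hconj : E.conj ((S.restrict hCi).prodMap (S.restrict hWi)) = S := LinearMap.ext fun x => by
      obtain ⟨⟨y, z⟩, rfl⟩ := E.surjective x
      rw [LinearEquiv.conj_apply_apply, LinearEquiv.symm_apply_apply]
      simp [E]
    have hC1 : S.restrict hCi = 1 := LinearMap.ext fun x => Subtype.ext ((hfix x).1 x.2)
    rw [← hconj, LinearEquiv.conj_apply, LinearMap.comp_assoc, LinearMap.det_conj, LinearMap.det_prodMap, hC1, map_one,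
      one_mul] at hd
    exact hd
  obtain ⟨v, hv0, hv⟩ := exists_fixed h2 (restrict_nondeg polB_symm hWn)
    (isom_restrict hiso hWi) hdW ho
  exact hv0 (Subtype.ext (Submodule.disjoint_def.1 hcW.disjoint v.1
    ((hfix _).2 (congrArg Subtype.val hv)) v.2))

end Avg

/-- An isometry preserving a non-singular subspace pointwise preserves its orthogonal complement. -/
theorem orth_of_fix (g : Cfsg.isometryGroup F ⇑Q) {C : Submodule F (ι → F)}
    (hfix : ∀ x ∈ C, act g x = x) {z : (ι → F)} (hz : ∀ y ∈ C, polB Q z y = 0) :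
    ∀ y ∈ C, polB Q (act g z) y = 0 := fun y hy => by
  conv_lhs => rw [← hfix y hy, polB_apply, act_polar]
  exact hz y hy

/-- Over an even dimension a unipotent isometry has no Jordan block filling the space. -/
theorem nilp_even (h2 : (2 : F) ≠ 0) {T : Module.End F (ι → F)} (hiso : Isom (polB Q) T) {ε : F}
    (hε : ε * ε = 1) {U : Submodule F (ι → F)} (hU : Bases.NondegOn (polB Q) U)
    (hTU : ∀ x ∈ U, T x ∈ U) {n c : ℕ} (hn : ∀ x ∈ U, ((T - ε • 1) ^ n) x = 0)
    (hc : Even c) (hc0 : 0 < c) (hle : finrank F U ≤ c) :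
    ∀ x ∈ U, ((T - ε • 1) ^ (c - 1)) x = 0 := by
  set N := T - ε • 1 with hN
  have hNU : ∀ x ∈ U, N x ∈ U := fun x hx => by
    rw [hN, LinearMap.sub_apply, LinearMap.smul_apply, Module.End.one_apply]
    exact U.sub_mem (hTU x hx) (U.smul_mem _ hx)
  have hNp : ∀ (i : ℕ) (x : (ι → F)), x ∈ U → (N ^ i) x ∈ U := fun i x hx => by
    induction i with
    | zero => simpa using hx
    | succ i ih => rw [pow_succ', Module.End.mul_apply]; exact hNU _ ih
  have hcz : ∀ x ∈ U, (N ^ c) x = 0 := fun x hx => by
    have hnil : IsNilpotent (N.restrict hNU) := ⟨n, LinearMap.ext fun y => Subtype.ext (by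
      rw [Module.End.pow_restrict n]; exact hn y.1 y.2)⟩
    have h1 := (N.restrict hNU).aeval_self_charpoly
    rw [hnil.charpoly_eq_X_pow_finrank, map_pow, aeval_X] at h1
    have h4 := congrArg Subtype.val (LinearMap.congr_fun h1 ⟨x, hx⟩)
    rw [Module.End.pow_restrict] at h4
    have h3 : (N ^ finrank F U) x = 0 := h4
    rw [← Nat.sub_add_cancel hle, pow_add, Module.End.mul_apply, h3, map_zero]
  have hadj : ∀ (j : ℕ) (u w : (ι → F)), polB Q ((N ^ j) u) ((T ^ j) w) = (-ε) ^ j * polB Q u ((N ^ j) w) := by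
    intro j
    induction j with
    | zero => intro u w; simp
    | succ j ih =>
      intro u w
      rw [pow_succ', pow_succ', Module.End.mul_apply, Module.End.mul_apply]
      have h1 : ∀ a b : (ι → F), polB Q (N a) (T b) = (-ε) * polB Q a (N b) := fun a b => by
        simp only [hN, LinearMap.sub_apply, LinearMap.smul_apply, Module.End.one_apply, map_sub,
          map_smul, smul_eq_mul]
        rw [hiso a b]
        linear_combination -(polB Q a b) * hε
      rw [h1, ← Module.End.mul_apply N, ← (Commute.pow_left ((Commute.refl T).sub_right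
        ((Commute.one_right T).smul_right ε)) j).eq, Module.End.mul_apply, ih, pow_succ',
        ← Module.End.mul_apply (N ^ j) N, ← pow_succ, pow_succ' N j]
      ring
  intro x hx
  by_contra hv0
  set v := (N ^ (c - 1)) x with hv
  have hTv : T v = ε • v := by
    have h := hcz x hx
    rw [← Nat.sub_add_cancel hc0, pow_succ', Module.End.mul_apply, ← hv, hN, LinearMap.sub_apply,
      LinearMap.smul_apply, Module.End.one_apply, sub_eq_zero] at h
    exact h
  let K : ℕ → Submodule F (ι → F) := fun i => U ⊓ LinearMap.ker (N ^ i)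
  have hKdim : ∀ i, i ≤ c → i ≤ finrank F (K i) := by
    intro i
    induction i with
    | zero => intro _; exact Nat.zero_le _
    | succ i ih =>
      intro hi
      have hlt : K i < K (i + 1) := by
        refine lt_of_le_of_ne (inf_le_inf_left U fun y hy => ?_) fun he => ?_
        · rw [LinearMap.mem_ker, pow_succ', Module.End.mul_apply, LinearMap.mem_ker.1 hy, map_zero]
        · have hmem : (N ^ (c - 1 - i)) x ∈ K (i + 1) := ⟨hNp _ x hx, by
            rw [SetLike.mem_coe, LinearMap.mem_ker, ← Module.End.mul_apply, ← pow_add,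
              show i + 1 + (c - 1 - i) = c by omega]
            exact hcz x hx⟩
          rw [← he] at hmem
          have h0 := LinearMap.mem_ker.1 hmem.2
          rw [← Module.End.mul_apply, ← pow_add, show i + (c - 1 - i) = c - 1 by omega] at h0
          exact hv0 h0
      have := Submodule.finrank_lt_finrank_of_lt hlt
      have := ih (by omega)
      omega
  have hsup : K (c - 1) ⊔ Submodule.span F {x} = U := by
    refine Submodule.eq_of_le_of_finrank_le
      (sup_le inf_le_left ((Submodule.span_singleton_le_iff_mem _ _).2 hx)) ?_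
    have hlt : K (c - 1) < K (c - 1) ⊔ Submodule.span F {x} := by
      refine lt_of_le_of_ne le_sup_left fun he => hv0 ?_
      have : x ∈ K (c - 1) := he ▸ Submodule.mem_sup_right (Submodule.mem_span_singleton_self x)
      exact LinearMap.mem_ker.1 this.2
    have := Submodule.finrank_lt_finrank_of_lt hlt
    have := hKdim (c - 1) (by omega)
    omega
  have hev : (-ε) ^ (c - 1) = -(ε ^ (c - 1)) := by
    rw [neg_pow, (Nat.Even.sub_odd hc0 hc odd_one).neg_one_pow]; ring
  have hε0 : ε ≠ 0 := fun h => by simp [h] at hε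
  have hxv : polB Q v x = 0 := by
    have h1 := hadj (c - 1) x x
    rw [← hv, hev, polB_symm.eq x v] at h1
    have hTj : ∀ j : ℕ, (T ^ j) v = ε ^ j • v := fun j => by
      induction j with
      | zero => simp
      | succ j ih => rw [pow_succ', Module.End.mul_apply, ih, map_smul, hTv, smul_smul, ← pow_succ]
    have h3 : polB Q ((T ^ (c - 1)) v) ((T ^ (c - 1)) x) = polB Q v x := isom_pow hiso _ v x
    rw [hTj, map_smul, LinearMap.smul_apply, smul_eq_mul, h1] at h3
    have hεj : ε ^ (c - 1) * ε ^ (c - 1) = 1 := by rw [← mul_pow, hε, one_pow]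
    have : (2 : F) * polB Q v x = 0 := by linear_combination -h3 - polB Q v x * hεj
    exact (mul_eq_zero.1 this).resolve_left h2
  refine hv0 (hU v (hNp _ x hx) fun y hy => ?_)
  rw [← hsup] at hy
  obtain ⟨a, ha, b, hb, rfl⟩ := Submodule.mem_sup.1 hy
  obtain ⟨t, rfl⟩ := Submodule.mem_span_singleton.1 hb
  have h1 := hadj (c - 1) a x
  rw [LinearMap.mem_ker.1 ha.2, map_zero, LinearMap.zero_apply, ← hv, polB_symm.eq a v] at h1
  rw [map_add, map_smul, hxv, smul_zero, add_zero]
  exact (mul_eq_zero.1 h1.symm).resolve_left (pow_ne_zero _ (neg_ne_zero.2 hε0))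

end Cfsg.Agent.Classical.SpectrumNine
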