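import Cfsg.Agent.Lib.Classical.SpectrumNine.Kill

/-!
# Orders of isometries of `Ω⁺₈` without fixed vectors
-/

set_option autoImplicit false
set_option linter.unusedSectionVars false

namespace Cfsg.Agent.Classical.SpectrumNine

open Module Polynomial Cfsg.Agent.Forms Cfsg.Agent.Forms.QuadStd Cfsg.Agent.Forms.Reflections
open Cfsg.Agent.Classical Cfsg.Agent.Classical.OmegaCrit
open Cfsg.Agent.AutPOmega.SSFusion (mx)

local notation "rstar" => Cfsg.Agent.Classical.SelfRecipOrder.star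

/-- The possible orders. -/
def Target (q p n : ℕ) : Prop :=
  n ∣ (q ^ 4 - 1) / 2 ∨ n ∣ (q ^ 3 + 1) * ((q - 1) / 2) ∨ n ∣ (q ^ 3 - 1) * ((q + 1) / 2) ∨
    n ∣ (q ^ 2 + 1) / 2 * (q - 1) * p ∨ n ∣ (q ^ 2 + 1) / 2 * (q + 1) * p ∨
    n ∣ (q ^ 2 - 1) * p ∨ (p = 3 ∧ (n ∣ (q - 1) * p ^ 2 ∨ n ∣ (q + 1) * p ^ 2)) ∨
    ((p = 3 ∨ p = 5) ∧ n ∣ 2 * p ^ 2)

theorem dvd_facts {q : ℕ} (hq : 3 ≤ q) (ho : q % 2 = 1) :
    (q ^ 2 + 1 ∣ (q ^ 4 - 1) / 2 ∧ q ^ 2 - 1 ∣ (q ^ 4 - 1) / 2 ∧ q - 1 ∣ (q ^ 4 - 1) / 2 ∧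
      q + 1 ∣ (q ^ 4 - 1) / 2) ∧
    (q + 1 ∣ (q ^ 3 + 1) * ((q - 1) / 2) ∧ q - 1 ∣ (q ^ 3 + 1) * ((q - 1) / 2)) ∧
    (q + 1 ∣ (q ^ 3 - 1) * ((q + 1) / 2) ∧ q - 1 ∣ (q ^ 3 - 1) * ((q + 1) / 2)) ∧
    (q - 1 ∣ q ^ 2 - 1 ∧ q + 1 ∣ q ^ 2 - 1) ∧
    (q ^ 2 + 1 ∣ (q ^ 2 + 1) / 2 * (q - 1) ∧ q ^ 2 + 1 ∣ (q ^ 2 + 1) / 2 * (q + 1)) := by
  have h1 : q - 1 ∣ q ^ 2 - 1 := Nat.sub_one_dvd_pow_sub_one q 2
  have h1' : q + 1 ∣ q ^ 2 - 1 := ⟨q - 1, by
    rw [show q ^ 2 - 1 = q ^ 2 - 1 ^ 2 by rw [one_pow], Nat.sq_sub_sq]⟩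
  have e2 : q ^ 2 % 2 = 1 := by rw [Nat.pow_mod, ho]
  have h21 : 2 ∣ q ^ 2 - 1 := by omega
  have h22 : 2 ∣ q ^ 2 + 1 := by omega
  have hq4 : (q ^ 4 - 1) = (q ^ 2 + 1) * (q ^ 2 - 1) := by
    rw [show q ^ 4 - 1 = (q ^ 2) ^ 2 - 1 ^ 2 by rw [one_pow, ← pow_mul], Nat.sq_sub_sq]
  have e3 : q ^ 3 % 2 = 1 := by rw [Nat.pow_mod, ho]
  have h31 : q - 1 ∣ q ^ 3 - 1 := Nat.sub_one_dvd_pow_sub_one q 3
  have h32 : q + 1 ∣ q ^ 3 + 1 := by
    have := Odd.nat_add_dvd_pow_add_pow q 1 (n := 3) (by decide)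
    simpa using this
  refine ⟨⟨?_, ?_, ?_, ?_⟩, ⟨h32.mul_right _, ?_⟩, ⟨?_, h31.mul_right _⟩, ⟨h1, h1'⟩, ?_, ?_⟩
  · exact ⟨(q ^ 2 - 1) / 2, by rw [hq4, Nat.mul_div_assoc _ h21]⟩
  · exact ⟨(q ^ 2 + 1) / 2, by rw [hq4, mul_comm, Nat.mul_div_assoc _ h22]⟩
  · exact h1.trans ⟨(q ^ 2 + 1) / 2, by rw [hq4, mul_comm, Nat.mul_div_assoc _ h22]⟩
  · exact h1'.trans ⟨(q ^ 2 + 1) / 2, by rw [hq4, mul_comm, Nat.mul_div_assoc _ h22]⟩
  · obtain ⟨r, hr⟩ : 2 ∣ q ^ 3 + 1 := by omega
    obtain ⟨l, hl⟩ : 2 ∣ q - 1 := by omega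
    rw [hr, hl, Nat.mul_div_cancel_left l two_pos]
    exact ⟨r, by ring⟩
  · obtain ⟨r, hr⟩ : 2 ∣ q ^ 3 - 1 := by omega
    obtain ⟨l, hl⟩ : 2 ∣ q + 1 := by omega
    rw [hr, hl, Nat.mul_div_cancel_left l two_pos]
    exact ⟨r, by ring⟩
  · obtain ⟨r, hr⟩ := h22
    obtain ⟨l, hl⟩ : 2 ∣ q - 1 := by omega
    rw [hr, hl, Nat.mul_div_cancel_left r two_pos]
    exact ⟨l, by ring⟩
  · obtain ⟨r, hr⟩ := h22
    obtain ⟨l, hl⟩ : 2 ∣ q + 1 := by omega
    rw [hr, hl, Nat.mul_div_cancel_left r two_pos]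
    exact ⟨l, by ring⟩

variable {F : Type*} [Field F] [DecidableEq F] [Fintype F]

/-- Whether two factors lie in one class. -/
def Rel (f g : F[X]) : Prop := g = f ∨ g = rstar f

theorem rel_data {χ : F[X]} {n : ℕ} (S : Shape χ n) {f g : F[X]} (hf : f ∈ S.T) (h : Rel f g) :
    ww g = ww f ∧ S.cnt g = S.cnt f ∧ dd g = dd f := by
  rcases h with rfl | rfl
  · exact ⟨rfl, rfl, rfl⟩
  · obtain ⟨-, -, hc, hd, hw⟩ := S.star_mem f hf; exact ⟨hw, hc, hd⟩

theorem rel_comm {χ : F[X]} {n : ℕ} (S : Shape χ n) {f g : F[X]} (hf : f ∈ S.T) (h : Rel f g) :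
    Rel g f := by
  rcases h with rfl | rfl
  · exact Or.inl rfl
  · exact Or.inr (S.star_mem f hf).2.1.symm

theorem w1 {χ : F[X]} {n : ℕ} (S : Shape χ n) {f : F[X]} (hf : f ∈ S.T) :
    S.c + 2 * (S.cnt f * dd f) ≤ n := by
  have := S.weight {f} (Finset.singleton_subset_iff.2 hf) fun a ha b hb hne => by
    rw [Finset.mem_singleton] at ha hb
    exact absurd (ha.trans hb.symm) hne
  rwa [Finset.sum_singleton] at this

theorem w2 {χ : F[X]} {n : ℕ} (S : Shape χ n) {f g : F[X]} (hf : f ∈ S.T) (hg : g ∈ S.T)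
    (h : ¬ Rel f g) : S.c + 2 * (S.cnt f * dd f + S.cnt g * dd g) ≤ n := by
  have hne : f ≠ g := fun e => h (Or.inl e.symm)
  have := S.weight {f, g} (Finset.insert_subset hf (Finset.singleton_subset_iff.2 hg))
    fun a ha b hb hab => by
      rw [Finset.mem_insert, Finset.mem_singleton] at ha hb
      rcases ha with rfl | rfl <;> rcases hb with rfl | rfl
      · exact absurd rfl hab
      · exact fun e => h (Or.inr e)
      · exact fun e => h (rel_comm S hg (Or.inr e))
      · exact absurd rfl hab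
  rwa [Finset.sum_pair hne] at this

theorem w3 {χ : F[X]} {n : ℕ} (S : Shape χ n) {f g l : F[X]} (hf : f ∈ S.T) (hg : g ∈ S.T)
    (hl : l ∈ S.T) (h1 : ¬ Rel f g) (h2 : ¬ Rel f l) (h3 : ¬ Rel g l) :
    S.c + 2 * (S.cnt f * dd f + (S.cnt g * dd g + S.cnt l * dd l)) ≤ n := by
  have hfg : f ≠ g := fun e => h1 (Or.inl e.symm)
  have hfl : f ≠ l := fun e => h2 (Or.inl e.symm)
  have hgl : g ≠ l := fun e => h3 (Or.inl e.symm)
  have := S.weight {f, g, l}
    (Finset.insert_subset hf (Finset.insert_subset hg (Finset.singleton_subset_iff.2 hl)))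
    fun a ha b hb hab => by
      rw [Finset.mem_insert, Finset.mem_insert, Finset.mem_singleton] at ha hb
      rcases ha with rfl | rfl | rfl <;> rcases hb with rfl | rfl | rfl
      all_goals first
        | exact absurd rfl hab
        | exact fun e => h1 (Or.inr e)
        | exact fun e => h2 (Or.inr e)
        | exact fun e => h3 (Or.inr e)
        | exact fun e => h1 (rel_comm S hg (Or.inr e))
        | exact fun e => h2 (rel_comm S hl (Or.inr e))
        | exact fun e => h3 (rel_comm S hl (Or.inr e))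
  rwa [Finset.sum_insert (by simp [hfg, hfl]), Finset.sum_pair hgl] at this

variable {R : QuadraticForm F (Fin 8 → F)}

/-- The orders of elements without fixed vectors. -/
theorem bound {p : ℕ} [Fact p.Prime] [CharP F p] (hR : (QuadraticMap.polarBilin R).Nondegenerate)
    (h2 : (2 : F) ≠ 0) (hd : dchi R = 1) (h : Cfsg.isometryGroup F ⇑R)
    (hΩ : h ∈ Cfsg.Omega F ⇑R) (hfix : ∀ y, act h y = y → y = 0) :
    Target (Fintype.card F) p (orderOf h) := by
  classical
  set q := Fintype.card F with hqdef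
  have hp : p.Prime := Fact.out
  have hp2 : p ≠ 2 := fun h' => h2 (by
    have := CharP.cast_eq_zero F p
    rw [h'] at this; exact_mod_cast this)
  have hp3 : 3 ≤ p := by have := hp.two_le; omega
  have hqodd : q % 2 = 1 := Nat.not_even_iff.1 fun he => h2 (by
    have : CharP F 2 := ringChar.of_eq ((FiniteField.even_card_iff_char_two).2 (Nat.even_iff.1 he))
    exact CharTwo.two_eq_zero)
  have hq3 : 3 ≤ q := by have : 1 < q := Fintype.one_lt_card; omega
  obtain ⟨⟨hA1, hA2, hA3, hA4⟩, ⟨hB1, hB2⟩, ⟨hC1, hC2⟩, ⟨hD1, hD2⟩, hE1, hE2⟩ :=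
    dvd_facts hq3 hqodd
  obtain ⟨S⟩ : Nonempty (Shape (mx h).charpoly 8) := exists_shape hR h (eval_one_ne hfix)
  have hcev := S.even (by norm_num)
  have hroot : ∀ f ∈ S.T, ∀ E, ww f ∣ E → f ∣ X ^ E - 1 := fun f hf E hE => by
    obtain ⟨t, rfl⟩ := hE
    exact (S.dvd f hf).trans (by rw [pow_mul]; exact sub_one_dvd_pow_sub_one _ t)
  have hK : ∀ E e, 2 ∣ E → (∀ f ∈ S.T, f ∣ X ^ E - 1 ∧ S.cnt f ≤ p ^ e) →
      (S.c ≤ 1 ∨ S.c - 1 ≤ p ^ e) → orderOf h ∣ E * p ^ e :=
    fun E e => kill hR h2 h S E e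
  have hww : ∀ f ∈ S.T, (ww f = q ^ dd f + 1 ∧ rstar f = f) ∨
      (ww f = q ^ dd f - 1 ∧ rstar f ≠ f) := fun f hf => by
    unfold ww
    split_ifs with hs
    · exact Or.inl ⟨rfl, hs⟩
    · exact Or.inr ⟨rfl, hs⟩
  have hw1 : ∀ f ∈ S.T, dd f = 1 → ww f = q + 1 ∨ ww f = q - 1 := fun f hf h' => by
    rcases hww f hf with ⟨e, -⟩ | ⟨e, -⟩ <;> rw [h', pow_one] at e
    exacts [Or.inl e, Or.inr e]
  have hw2 : ∀ f ∈ S.T, dd f = 2 → ww f = q ^ 2 + 1 ∨ ww f = q ^ 2 - 1 := fun f hf h' => by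
    rcases hww f hf with ⟨e, -⟩ | ⟨e, -⟩ <;> rw [h'] at e
    exacts [Or.inl e, Or.inr e]
  have hmul : ∀ f ∈ S.T, dd f ≤ S.cnt f * dd f ∧ S.cnt f ≤ S.cnt f * dd f := fun f hf =>
    ⟨Nat.le_mul_of_pos_left _ (S.pos f hf), Nat.le_mul_of_pos_right _ (S.dd_pos f hf)⟩
  have hone : ∀ f ∈ S.T, dd f = 1 → S.cnt f * dd f = S.cnt f := fun f _ e => by rw [e, mul_one]
  have htwo : ∀ f ∈ S.T, dd f = 2 → S.cnt f * dd f = 2 * S.cnt f := fun f _ e => by rw [e, mul_comm]
  have hev2 : 2 ∣ q ^ 2 - 1 := (Nat.dvd_trans (show 2 ∣ q - 1 by omega) hD1)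
  have hev4 : 2 ∣ (q ^ 4 - 1) / 2 := hev2.trans hA2
  -- a class of degree four
  by_cases h4 : ∃ f ∈ S.T, 4 ≤ dd f
  · obtain ⟨f, hf, hd4⟩ := h4
    have hf1 := w1 S hf
    have := hmul f hf
    have hcf : S.cnt f = 1 := by
      have := S.pos f hf
      by_contra hne
      have : 2 * dd f ≤ S.cnt f * dd f := Nat.mul_le_mul_right _ (by omega)
      omega
    have hd4' : dd f = 4 := by rw [hcf, one_mul] at hf1; omega
    have hc0 : S.c = 0 := by omega
    have hrel : ∀ g ∈ S.T, Rel f g := fun g hg => by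
      by_contra hg'
      have := w2 S hf hg hg'
      have := hmul g hg
      have := S.dd_pos g hg
      omega
    have hTeq : S.T = {f, rstar f} := Finset.Subset.antisymm
      (fun g hg => by
        rw [Finset.mem_insert, Finset.mem_singleton]; exact hrel g hg)
      (Finset.insert_subset hf (Finset.singleton_subset_iff.2 (S.star_mem f hf).1))
    have hχ := S.prod
    rw [hc0, pow_zero, one_mul, hTeq] at hχ
    have hm1 : (mx h).charpoly.eval (-1) ≠ 0 := by
      intro h0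
      rw [hχ, eval_prod, Finset.prod_eq_zero_iff] at h0
      obtain ⟨g, hg, hg0⟩ := h0
      rw [← hTeq] at hg
      rw [eval_pow] at hg0
      have := dvd_iff_isRoot.2 (pow_eq_zero_iff'.1 hg0).1
      rw [map_neg, sub_neg_eq_add, C_1] at this
      exact (S.not_one g hg).1 (eq_of_monic_of_associated (S.monic g hg)
        (by simpa using monic_X_add_C (1 : F))
        ((irreducible_of_degree_eq_one (degree_X_add_C (1 : F))).associated_of_dvd (S.irr g hg)
          (by rwa [C_1])).symm |>.trans (by rw [C_1]))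
    by_cases hs : rstar f = f
    · exfalso
      rw [hs, Finset.pair_eq_singleton, Finset.prod_singleton, hcf, pow_one] at hχ
      have hdeg := S.deg_self f hf hs
      have hdv := S.dvd f hf
      rw [ww, if_pos hs, hd4'] at hdv
      have h1 := eval_one_ne (g := h) hfix
      have hsq := isSquare_eval hR h2 hd hΩ h1 hm1
      rw [hχ] at hsq h1
      exact not_square_self h2 (S.irr f hf) (S.monic f hf) (by omega) hdv h1 hsq
    · refine Or.inl ?_
      have hhalf : ∀ g ∈ S.T, g ∣ X ^ ((q ^ 4 - 1) / 2) - 1 := by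
        intro g hg
        obtain ⟨hgm, hgss, hgc, -, -⟩ := S.star_mem g hg
        have hrd := rel_data S hf (hrel g hg)
        have hgs : rstar g ≠ g := fun e => by
          rcases hrel g hg with rfl | rfl
          · exact hs e
          · exact hs (e.symm.trans (S.star_mem f hf).2.1)
        have hTg : S.T = {g, rstar g} := by
          rcases hrel g hg with rfl | rfl
          · exact hTeq
          · rw [hTeq, (S.star_mem f hf).2.1, Finset.pair_comm]
        have hχg : (mx h).charpoly = g * rstar g := by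
          have := S.prod
          rw [hc0, pow_zero, one_mul, hTg, Finset.prod_pair (Ne.symm hgs), hgc, hrd.2.1, hcf,
            pow_one, pow_one] at this
          exact this
        have hdeg : g.natDegree = 4 := by rw [S.deg_pair g hg hgs, hrd.2.2, hd4']
        have h00 : g.coeff 0 ≠ 0 := fun e => by
          have hx : (X : F[X]) ∣ g := X_dvd_iff.2 e
          have : g = X := (eq_of_monic_of_associated monic_X (S.monic g hg)
            (irreducible_X.associated_of_dvd (S.irr g hg) hx)).symm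
          rw [this, natDegree_X] at hdeg
          omega
        have hstar : rstar g = g.reverse * C (g.coeff 0)⁻¹ := by
          rw [SelfRecipOrder.star, normalize_apply, coe_normUnit, reverse_leadingCoeff,
            trailingCoeff, SelfRecipOrder.natTrailingDegree_eq_zero' h00]
          simp [h00]
        have hrev : g.reverse.eval (-1) = g.eval (-1) := by
          haveI : Invertible (-1 : F) := invertibleOfNonzero (by simp)
          have h' := eval₂_reverse_mul_pow (RingHom.id F) (-1 : F) g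
          rw [invOf_eq_inv, inv_neg_one, hdeg, (show Even 4 by decide).neg_one_pow, mul_one] at h'
          exact h'
        have hsq := isSquare_cayley hR h2 hΩ hm1
        rw [hχg, hstar, eval_mul, eval_mul, eval_C, hrev] at hsq
        have hg1 : g.eval (-1) ≠ 0 := fun e => hm1 (by rw [hχg, eval_mul, e, zero_mul])
        obtain ⟨t, ht⟩ := hsq
        refine half_pair h2 (S.irr g hg) (S.monic g hg) hdeg ⟨g.eval (-1) / t, ?_⟩ h00
        have ht0 : t ≠ 0 := fun e => by
          rw [e, mul_zero] at ht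
          rcases mul_eq_zero.1 ht with e' | e'
          · exact hg1 e'
          · rcases mul_eq_zero.1 e' with e'' | e''
            exacts [hg1 e'', inv_ne_zero h00 e'']
        field_simp at ht ⊢
        linear_combination -ht
      have := hK _ 0 hev4 (fun g hg => ⟨hhalf g hg, by
        rw [(rel_data S hf (hrel g hg)).2.1, hcf, pow_zero]⟩) (Or.inl (by omega))
      rwa [pow_zero, mul_one] at this
  push Not at h4
  -- a class of degree three
  by_cases h3 : ∃ f ∈ S.T, dd f = 3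
  · obtain ⟨f, hf, hd3⟩ := h3
    have hf1 := w1 S hf
    have hcf : S.cnt f = 1 := by
      have := S.pos f hf
      rw [hd3] at hf1
      omega
    rw [hcf, hd3] at hf1
    have hother : ∀ g ∈ S.T, Rel f g ∨ (dd g = 1 ∧ S.cnt g = 1) := fun g hg => by
      by_cases hg' : Rel f g
      · exact Or.inl hg'
      have := w2 S hf hg hg'
      rw [hcf, hd3] at this
      have := hmul g hg
      have := S.dd_pos g hg
      have := S.pos g hg
      exact Or.inr ⟨by omega, by omega⟩
    have hcnt : ∀ g ∈ S.T, S.cnt g ≤ p ^ 0 := fun g hg => by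
      rw [pow_zero]
      rcases hother g hg with hg' | ⟨-, hg'⟩
      · rw [(rel_data S hf hg').2.1, hcf]
      · rw [hg']
    rcases hww f hf with ⟨hwf, -⟩ | ⟨hwf, -⟩ <;> rw [hd3] at hwf
    · refine Or.inr (Or.inl ?_)
      have := hK ((q ^ 3 + 1) * ((q - 1) / 2)) 0
        (Dvd.dvd.mul_right (by have : q ^ 3 % 2 = 1 := (by rw [Nat.pow_mod, hqodd]); omega) _)
        (fun g hg => ⟨hroot g hg _ (by
          rcases hother g hg with hg' | ⟨hg', -⟩
          · rw [(rel_data S hf hg').1, hwf]; exact dvd_mul_right _ _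
          · rcases hw1 g hg hg' with e | e <;> rw [e] <;> assumption), hcnt g hg⟩)
        (Or.inr (by rw [pow_zero]; omega))
      rwa [pow_zero, mul_one] at this
    · refine Or.inr (Or.inr (Or.inl ?_))
      have := hK ((q ^ 3 - 1) * ((q + 1) / 2)) 0
        (Dvd.dvd.mul_right (by have : q ^ 3 % 2 = 1 := (by rw [Nat.pow_mod, hqodd]); omega) _)
        (fun g hg => ⟨hroot g hg _ (by
          rcases hother g hg with hg' | ⟨hg', -⟩
          · rw [(rel_data S hf hg').1, hwf]; exact dvd_mul_right _ _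
          · rcases hw1 g hg hg' with e | e <;> rw [e] <;> assumption), hcnt g hg⟩)
        (Or.inr (by rw [pow_zero]; omega))
      rwa [pow_zero, mul_one] at this
  push Not at h3
  have hle2 : ∀ f ∈ S.T, dd f = 1 ∨ dd f = 2 := fun f hf => by
    have := h4 f hf; have := h3 f hf; have := S.dd_pos f hf; omega
  -- everything simple
  by_cases hsimple : (∀ f ∈ S.T, S.cnt f ≤ 1) ∧ S.c ≤ 2
  · refine Or.inl ?_
    have := hK _ 0 hev4 (fun g hg => ⟨hroot g hg _ (by
      rcases hle2 g hg with e | e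
      · rcases hw1 g hg e with e' | e' <;> rw [e'] <;> assumption
      · rcases hw2 g hg e with e' | e' <;> rw [e'] <;> assumption), by
      rw [pow_zero]; exact hsimple.1 g hg⟩) (Or.inr (by rw [pow_zero]; omega))
    rwa [pow_zero, mul_one] at this
  by_cases h2' : ∃ f ∈ S.T, dd f = 2
  · obtain ⟨f, hf, hd2⟩ := h2'
    have hf1 := w1 S hf
    rw [hd2] at hf1
    have hcp := S.pos f hf
    -- nothing besides `f` but one class of degree one
    have huniq : ∀ g ∈ S.T, ¬ Rel f g → dd g = 1 ∧ ∀ l ∈ S.T, ¬ Rel f l → Rel g l := by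
      intro g hg hg'
      have hw := w2 S hf hg hg'
      rw [hd2] at hw
      have hgp := S.pos g hg
      refine ⟨(hle2 g hg).resolve_right fun e => hsimple ?_, fun l hl hl' => ?_⟩
      · rw [e] at hw
        refine ⟨fun l hl => ?_, by omega⟩
        by_cases hl' : Rel f l
        · rw [(rel_data S hf hl').2.1]; omega
        · have := w2 S hf hl hl'
          rw [hd2] at this
          have := hmul l hl
          by_cases hgl : Rel g l
          · rw [(rel_data S hg hgl).2.1]; omega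
          · have := w3 S hf hg hl hg' hl' hgl
            rw [hd2, e] at this
            have := S.pos l hl
            omega
      · by_contra hgl
        refine hsimple ⟨fun m hm => ?_, ?_⟩
        · have h3' := w3 S hf hg hl hg' hl' hgl
          have := hmul g hg; have := hmul l hl; have := S.dd_pos g hg; have := S.dd_pos l hl
          rw [hd2] at h3'
          by_cases hfm : Rel f m
          · rw [(rel_data S hf hfm).2.1]; omega
          by_cases hgm : Rel g m
          · rw [(rel_data S hg hgm).2.1]; omega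
          by_cases hlm : Rel l m
          · rw [(rel_data S hl hlm).2.1]; omega
          · have h3'' := w3 S hf hg hm hg' hfm hgm
            rw [hd2] at h3''
            have := hmul m hm; have := S.dd_pos m hm
            omega
        · have h3' := w3 S hf hg hl hg' hl' hgl
          have := hmul g hg; have := hmul l hl; have := S.dd_pos g hg; have := S.dd_pos l hl
          rw [hd2] at h3'
          omega
    have hcnt : ∀ g ∈ S.T, S.cnt g ≤ p ^ 1 := fun g hg => by
      rw [pow_one]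
      by_cases hg' : Rel f g
      · rw [(rel_data S hf hg').2.1]; omega
      · have hw := w2 S hf hg hg'
        rw [hd2, (huniq g hg hg').1] at hw
        omega
    have hcc : S.c ≤ 1 ∨ S.c - 1 ≤ p ^ 1 := Or.inr (by rw [pow_one]; omega)
    rcases hw2 f hf hd2 with hwf | hwf
    · obtain ⟨d, hd', hdE⟩ : ∃ d, (d = q - 1 ∨ d = q + 1) ∧ ∀ g ∈ S.T, ¬ Rel f g → ww g = d := by
        by_cases hex : ∃ g ∈ S.T, ¬ Rel f g
        · obtain ⟨g, hg, hg'⟩ := hex
          exact ⟨ww g, (hw1 g hg (huniq g hg hg').1).symm, fun l hl hl' =>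
            (rel_data S hg ((huniq g hg hg').2 l hl hl')).1⟩
        · exact ⟨q - 1, Or.inl rfl, fun g hg hg' => absurd ⟨g, hg, hg'⟩ hex⟩
      have hdd' : 2 ∣ d ∧ q ^ 2 + 1 ∣ (q ^ 2 + 1) / 2 * d := by
        rcases hd' with rfl | rfl
        exacts [⟨by omega, hE1⟩, ⟨by omega, hE2⟩]
      have := hK ((q ^ 2 + 1) / 2 * d) 1 (hdd'.1.mul_left _) (fun g hg => ⟨hroot g hg _ (by
        by_cases hg' : Rel f g
        · rw [(rel_data S hf hg').1, hwf]; exact hdd'.2
        · rw [hdE g hg hg']; exact dvd_mul_left _ _), hcnt g hg⟩) hcc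
      rw [pow_one] at this
      rcases hd' with rfl | rfl
      · exact Or.inr (Or.inr (Or.inr (Or.inl this)))
      · exact Or.inr (Or.inr (Or.inr (Or.inr (Or.inl this))))
    · have := hK (q ^ 2 - 1) 1 hev2 (fun g hg => ⟨hroot g hg _ (by
        by_cases hg' : Rel f g
        · rw [(rel_data S hf hg').1, hwf]
        · rcases hw1 g hg (huniq g hg hg').1 with e | e <;> rw [e] <;> assumption), hcnt g hg⟩) hcc
      rw [pow_one] at this
      exact Or.inr (Or.inr (Or.inr (Or.inr (Or.inr (Or.inl this)))))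
  push Not at h2'
  have hd1 : ∀ f ∈ S.T, dd f = 1 := fun f hf => (hle2 f hf).resolve_right (h2' f hf)
  by_cases hsmall : (∀ f ∈ S.T, S.cnt f ≤ p) ∧ S.c - 1 ≤ p
  · have := hK (q ^ 2 - 1) 1 hev2 (fun g hg => ⟨hroot g hg _ (by
      rcases hw1 g hg (hd1 g hg) with e | e <;> rw [e] <;> assumption), by
      rw [pow_one]; exact hsmall.1 g hg⟩) (Or.inr (by rw [pow_one]; exact hsmall.2))
    rw [pow_one] at this
    exact Or.inr (Or.inr (Or.inr (Or.inr (Or.inr (Or.inl this)))))
  have hpe : 9 ≤ p ^ 2 := by nlinarith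
  have hone9 : ∀ d, (d = q - 1 ∨ d = q + 1) → p = 3 → (∀ g ∈ S.T, ww g = d ∧ S.cnt g ≤ 9) →
      S.c ≤ 8 → Target q p (orderOf h) := by
    intro d hd' hp' hg hc8
    have := hK d 2 (by rcases hd' with rfl | rfl <;> omega)
      (fun g hg' => ⟨hroot g hg' _ (hg g hg').1.dvd, (hg g hg').2.trans hpe⟩) (Or.inr (by omega))
    rcases hd' with rfl | rfl
    · exact Or.inr (Or.inr (Or.inr (Or.inr (Or.inr (Or.inr (Or.inl ⟨hp', Or.inl this⟩))))))
    · exact Or.inr (Or.inr (Or.inr (Or.inr (Or.inr (Or.inr (Or.inl ⟨hp', Or.inr this⟩))))))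
  by_cases hbig : ∃ f ∈ S.T, p < S.cnt f
  · obtain ⟨f, hf, hpf⟩ := hbig
    have hf1 := w1 S hf
    rw [hd1 f hf] at hf1
    have hrel : ∀ g ∈ S.T, Rel f g := fun g hg => by
      by_contra hg'
      have := w2 S hf hg hg'
      rw [hd1 f hf, hd1 g hg] at this
      have := S.pos g hg
      omega
    exact hone9 (ww f) (hw1 f hf (hd1 f hf)).symm (by omega) (fun g hg => by
      obtain ⟨hw, hc, -⟩ := rel_data S hf (hrel g hg)
      exact ⟨hw, by omega⟩) (by omega)
  push Not at hbig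
  have hc : p < S.c - 1 := Nat.lt_of_not_ge fun hle => hsmall ⟨hbig, hle⟩
  have htot : S.c ≤ 8 := le_trans (Nat.le_add_right _ _) S.total.le
  rcases (show S.c = 8 ∨ S.c = 6 by omega) with h8 | h6
  · have hT0 : ∀ f ∈ S.T, False := fun f hf => by
      have := w1 S hf
      rw [hd1 f hf] at this
      have := S.pos f hf
      omega
    have := hK 2 2 dvd_rfl (fun g hg => (hT0 g hg).elim) (Or.inr (by omega))
    have hp35 : p = 3 ∨ p = 5 := by
      by_contra hne
      push Not at hne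
      have h46 : p ≠ 4 ∧ p ≠ 6 := ⟨fun e => by rw [e] at hp; norm_num at hp,
        fun e => by rw [e] at hp; norm_num at hp⟩
      omega
    exact Or.inr (Or.inr (Or.inr (Or.inr (Or.inr (Or.inr (Or.inr ⟨hp35, this⟩))))))
  · have hp' : p = 3 := by
      by_contra hne
      have : p ≠ 4 := fun e => by rw [e] at hp; norm_num at hp
      omega
    by_cases hex : ∃ f, f ∈ S.T
    · obtain ⟨f, hf⟩ := hex
      exact hone9 (ww f) (hw1 f hf (hd1 f hf)).symm hp' (fun g hg => by
        have hrel : Rel f g := by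
          by_contra hg'
          have := w2 S hf hg hg'
          rw [hd1 f hf, hd1 g hg] at this
          have := S.pos f hf; have := S.pos g hg
          omega
        exact ⟨(rel_data S hf hrel).1, by have := hbig g hg; omega⟩) (by omega)
    · exact hone9 (q - 1) (Or.inl rfl) hp' (fun g hg => absurd ⟨g, hg⟩ hex) (by omega)

end Cfsg.Agent.Classical.SpectrumNine
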