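import Cfsg.Agent.Lib.Classical.SpectrumNine.Model

/-!
# Comparing `Ω (Q ⊥ line)` with the natural extension of `Ω (Q)`
-/

set_option autoImplicit false
set_option linter.unusedSectionVars false

namespace Cfsg.Agent.Classical.SpectrumNine

open Module Matrix Cfsg.Agent.Forms Cfsg.Agent.Forms.QuadStd Cfsg.Agent.Forms.Reflections
open Cfsg.Agent.Classical Cfsg.Agent.Classical.OmegaCrit Cfsg.Agent.Classical.OmegaSum
open Cfsg.Agent.Classical.OddOrthSpectrum (actHom actHom_isom Isom)
open Cfsg.Agent.AutPOmega.SSFusion (xfer act_xfer)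

variable {F : Type*} [Field F] [Fintype F] {ι : Type} [Fintype ι] [DecidableEq ι]
variable {Q : QuadraticForm F (ι → F)}

theorem split_pow {R : Type*} [Ring R] {T P : R} (hTP : Commute T P) (hP : P * P = P) (n : ℕ) :
    (T * P + (1 - P)) ^ n = T ^ n * P + (1 - P) := by
  induction n with
  | zero => simp
  | succ n ih =>
    have h1 : ∀ Z, P * (P * Z) = P * Z := fun Z => by rw [← mul_assoc, hP]
    have h2 : ∀ Z, P * (T * Z) = T * (P * Z) := fun Z => by
      rw [← mul_assoc, ← hTP.eq, mul_assoc]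
    rw [pow_succ, ih, pow_succ]
    simp only [mul_add, add_mul, mul_sub, sub_mul, mul_one, one_mul, mul_assoc, h1, h2, hP,
      ← hTP.eq]
    abel

/-- Every order in the split extension divides an order in the larger group. -/
theorem dirB {p : ℕ} [Fact p.Prime] [CharP F p] (hQ : (QuadraticMap.polarBilin Q).Nondegenerate)
    (h2 : (2 : F) ≠ 0) (heven : Even (Fintype.card ι)) {c : F} (hc : c ≠ 0) (x : HGroup ⇑Q) :
    ∃ g : Cfsg.Omega F ⇑(sumQ Q (lineQ c)), orderOf x ∣ orderOf g := by
  classical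
  have hp : p.Prime := Fact.out
  have hQ9 := sumQ_nondeg hQ (lineQ_nondeg h2 hc)
  obtain ⟨v, h⟩ := x
  obtain ⟨v, rfl⟩ : ∃ w, Multiplicative.ofAdd w = v := ⟨v.toAdd, rfl⟩
  let L : Cfsg.Omega F ⇑Q →* Cfsg.isometryGroup F ⇑(sumQ Q (lineQ c)) :=
    (leftHom Q (lineQ c)).comp (Cfsg.Omega F ⇑Q).subtype
  have hL : ∀ y, L y ∈ Cfsg.Omega F ⇑(sumQ Q (lineQ c)) := fun y =>
    (leftHom_mem_omega hQ (lineQ_nondeg h2 hc) h2 y.1).2 y.2
  have hLo : ∀ y, orderOf (L y) = orderOf y := fun y =>
    orderOf_injective L ((leftHom_injective Q (lineQ c)).comp Subtype.val_injective) y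
  by_cases hv : (∑ i ∈ Finset.range (orderOf h), actHom Q h.1 ^ i) v = 0
  · refine ⟨⟨L h, hL h⟩, ?_⟩
    rw [(orderOf_pair (p := p) h v).1 hv]
    exact ((hLo h).symm.trans (Subgroup.orderOf_mk (L h) (hL h)).symm).dvd
  obtain ⟨k, a, i, j, hk, hord, hsu, hs, hu⟩ := split_order p hp h
  have hb := boost_bound hQ h2 heven h hk hord hs ⟨i, j, rfl, hu, hsu⟩ hv
  have hkF : (k : F) ≠ 0 := fun h0 => hk ((CharP.cast_eq_zero_iff F p k).1 h0)
  set S := actHom Q (h ^ i).1 with hSdef
  set s9 := L (h ^ i) with hs9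
  set S9 := actHom _ s9 with hS9def
  have hs9o : orderOf s9 = k := by rw [hs9, hLo, hs]
  have hS9 : S9 ^ k = 1 := by
    rw [hS9def, ← map_pow, ← hs9o, pow_orderOf_eq_one, map_one]
  set C9 := LinearMap.ker (S9 - 1) with hC9
  have hC9n := nondegOn_fix hkF hS9 hQ9 (actHom_isom s9)
  have hC9p := fix_parity hkF hS9 hQ9 h2 (actHom_isom s9) (det_of_mem_omega hQ9 h2 (hL _))
  rw [← hC9] at hC9n hC9p
  have hfix : ∀ y, y ∈ C9 ↔ act s9 y = y := fun y => by
    rw [hC9, LinearMap.mem_ker]; exact sub_eq_zero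
  have hdim : finrank F (LinearMap.ker (S - 1)) + 1 ≤ finrank F C9 := by
    let f : (LinearMap.ker (S - 1) × (Unit → F)) →ₗ[F] C9 :=
      LinearMap.codRestrict C9 ((LinearEquiv.sumArrowLequivProdArrow ι Unit F F).symm.toLinearMap ∘ₗ
        (LinearMap.ker (S - 1)).subtype.prodMap LinearMap.id) fun y => (hfix _).2 (by
          show act (leftHom Q (lineQ c) (h ^ i).1) (Sum.elim y.1.1 y.2) = Sum.elim y.1.1 y.2
          rw [act_left, Sum.elim_comp_inl, Sum.elim_comp_inr]
          congr 1
          exact sub_eq_zero.1 (LinearMap.mem_ker.1 y.1.2))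
    have hf : Function.Injective f := fun y z e => by
      have e1 := (LinearEquiv.sumArrowLequivProdArrow ι Unit F F).symm.injective
        (congrArg Subtype.val e)
      simp only [LinearMap.prodMap_apply, Submodule.coe_subtype, LinearMap.id_coe, id_eq,
        Prod.mk.injEq] at e1
      exact Prod.ext (Subtype.ext e1.1) e1.2
    have := LinearMap.finrank_le_finrank_of_injective hf
    rwa [Module.finrank_prod, Module.finrank_pi, Fintype.card_unit] at this
  have hodd : Odd (finrank F C9) := by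
    rw [Nat.odd_iff]
    have := Nat.even_iff.1 heven
    rw [Fintype.card_sum, Fintype.card_unit] at hC9p
    omega
  obtain ⟨u, b, huΩ, hub, hmb, -, huz, huC, -, hdec⟩ :=
    exists_regular (p := p) hQ9 h2 hC9n rfl hodd
  have hcomm : Commute s9 u := iso_ext fun x => by
    rw [← act_apply, ← act_apply, act_mul, act_mul]
    obtain ⟨y, hy, hz⟩ := hdec x
    rw [← sub_add_cancel x y, map_add, map_add, map_add, map_add, huz _ hz,
      huz _ (orth_of_fix s9 (fun w hw => (hfix w).1 hw) hz), (hfix y).1 hy,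
      (hfix _).1 (huC y hy)]
  have hba : a + 1 ≤ b := by
    by_contra hlt
    have := Nat.pow_le_pow_right hp.pos (show b ≤ a by omega)
    omega
  refine ⟨⟨s9 * u, Subgroup.mul_mem _ (hL _) huΩ⟩, ?_⟩
  rw [(orderOf_pair (p := p) h v).2 hv]
  refine dvd_trans ?_ (Subgroup.orderOf_mk (s9 * u) _).symm.dvd
  rw [hcomm.orderOf_mul_eq_mul_orderOf_of_coprime
      (by rw [hs9o, hub]; exact ((hp.coprime_iff_not_dvd.2 hk).symm).pow_right b),
    hs9o, hub, hord, mul_assoc, ← pow_succ]
  exact Nat.mul_dvd_mul_left k (pow_dvd_pow p hba)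

/-- Every order in the larger group divides an order in the split extension, given this for the
elements of `Ω (R)`, `R` of the other type, without fixed vectors. -/
theorem dirA {p : ℕ} [Fact p.Prime] [CharP F p] (hQ : (QuadraticMap.polarBilin Q).Nondegenerate)
    (h2 : (2 : F) ≠ 0) (heven : Even (Fintype.card ι)) {c : F} (hc : c ≠ 0)
    {κ : Type} [Fintype κ] [DecidableEq κ] (R : QuadraticForm F (κ → F))
    (hR : (QuadraticMap.polarBilin R).Nondegenerate) (hcard : Fintype.card κ = Fintype.card ι)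
    (hd : dchi R ≠ dchi Q)
    (hplus : ∀ h ∈ Cfsg.Omega F ⇑R, (∀ y, act h y = y → y = 0) →
      ∃ x : HGroup ⇑Q, orderOf h ∣ orderOf x)
    (g : Cfsg.Omega F ⇑(sumQ Q (lineQ c))) : ∃ x : HGroup ⇑Q, orderOf g ∣ orderOf x := by
  classical
  have hp : p.Prime := Fact.out
  have hpodd : Odd p := hp.odd_of_ne_two fun h' => h2 (by
    have := CharP.cast_eq_zero F p
    rw [h'] at this; exact_mod_cast this)
  have hL := lineQ_nondeg h2 hc
  have hQ9 := sumQ_nondeg hQ hL
  obtain ⟨g, hg⟩ := g
  obtain ⟨k, a, i, j, hk, hord, hsu, hs, hu⟩ := split_order p hp g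
  rw [Subgroup.orderOf_mk]
  have hkF : (k : F) ≠ 0 := fun h0 => hk ((CharP.cast_eq_zero_iff F p k).1 h0)
  set T := actHom _ g with hT
  set S := actHom _ (g ^ i) with hSdef
  have hSp : S = T ^ i := map_pow _ g i
  have hS : S ^ k = 1 := by rw [hSdef, ← map_pow, ← hs, pow_orderOf_eq_one, map_one]
  have hTS : Commute T S := hSp ▸ (Commute.refl T).pow_right i
  set P := avg k S with hPdef
  have hTP : Commute T P := commute_avg hTS
  have hPP : P * P = P := avg_idem hkF hS
  set C := LinearMap.ker (S - 1) with hC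
  have hfix : ∀ y, y ∈ C ↔ S y = y := fun y => by rw [hC, LinearMap.mem_ker]; exact sub_eq_zero
  have hPC : ∀ y, P y ∈ C := fun y => (hfix _).2 (fix_avg hS y)
  have hPfix : ∀ y ∈ C, P y = y := fun y hy => avg_of_fix hkF ((hfix y).1 hy)
  have hCn := nondegOn_fix hkF hS hQ9 (actHom_isom (g ^ i))
  have hCp := fix_parity hkF hS hQ9 h2 (actHom_isom (g ^ i))
    (det_of_mem_omega hQ9 h2 (Subgroup.pow_mem _ hg i))
  rw [← hC] at hCn hCp
  have hcodd : Odd (finrank F C) := by
    rw [Nat.odd_iff]
    have := Nat.even_iff.1 heven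
    rw [Fintype.card_sum, Fintype.card_unit] at hCp
    omega
  -- the part on the fixed space
  have hGQ : ∀ x, sumQ Q (lineQ c) ((T * P + (1 - P)) x) = sumQ Q (lineQ c) x := by
    intro x
    have hz : ∀ w, polB (sumQ Q (lineQ c)) (P w) (x - P x) = 0 := fun w => by
      rw [map_sub, polar_avg hkF hS (actHom_isom (g ^ i)) (fix_avg hS w), sub_self]
    have h1 : T (P x) = P (T x) := LinearMap.congr_fun hTP.eq x
    have hsplit : ∀ w, sumQ Q (lineQ c) (P w + (x - P x)) =
        sumQ Q (lineQ c) (P w) + sumQ Q (lineQ c) (x - P x) := fun w => by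
      have := hz w
      rw [polB_apply] at this
      rw [QuadraticMap.map_add (sumQ Q (lineQ c)), this, add_zero]
    conv_rhs => rw [← add_sub_cancel (P x) x, hsplit x]
    rw [LinearMap.add_apply, LinearMap.sub_apply, Module.End.mul_apply, Module.End.one_apply, h1,
      hsplit, ← h1, hT]
    congr 1
    exact act_map g _
  obtain ⟨gC, hgC⟩ := exists_iso hQ9 _ hGQ
  have hjp : (g ^ j) ^ p ^ a = 1 := hu ▸ pow_orderOf_eq_one _
  have hTp : T ^ p ^ a * P = P := by
    have hgp : g ^ p ^ a = (g ^ i) ^ p ^ a := by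
      conv_lhs => rw [hsu, ((Commute.refl g).pow_pow i j).mul_pow, hjp, mul_one]
    have hSP : ∀ n, S ^ n * P = P := fun n => by
      induction n with
      | zero => rw [pow_zero, one_mul]
      | succ n ih => rw [pow_succ, mul_assoc, mul_avg hS, ih]
    rw [hT, ← map_pow, hgp, map_pow]
    exact hSP _
  have hgCpow : gC ^ p ^ a = 1 := OddOrthSpectrum.actHom_injective (by
    rw [map_pow, hgC, split_pow hTP hPP, hTp, add_sub_cancel, map_one])
  obtain ⟨aC, -, haC⟩ := (Nat.dvd_prime_pow hp).1 (orderOf_dvd_of_pow_eq_one hgCpow)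
  have hgCΩ : gC ∈ Cfsg.Omega F ⇑(sumQ Q (lineQ c)) :=
    mem_omega_of_odd hQ9 h2 (hpodd.pow) hgCpow
  set gW := g * gC⁻¹ with hgW
  have hgWΩ : gW ∈ Cfsg.Omega F ⇑(sumQ Q (lineQ c)) :=
    Subgroup.mul_mem _ hg (Subgroup.inv_mem _ hgCΩ)
  have hcom : Commute g gC := OddOrthSpectrum.actHom_injective (by
    rw [map_mul, map_mul, hgC]
    exact (((Commute.refl T).mul_right hTP).add_right ((Commute.one_right T).sub_right hTP)).eq)
  have hlcm : orderOf g ∣ Nat.lcm (orderOf gW) (p ^ aC) := by
    have h1 : g = gW * gC := (inv_mul_cancel_right g gC).symm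
    rw [← haC]
    conv_lhs => rw [h1]
    exact ((hcom.mul_left (Commute.inv_left (Commute.refl gC)))).orderOf_mul_dvd_lcm
  have hWfix : ∀ y ∈ C, act gW y = y := fun y hy => by
    have h1 : act gC y = act g y := by
      show actHom _ gC y = T y
      rw [hgC, LinearMap.add_apply, LinearMap.sub_apply, Module.End.mul_apply, hPfix y hy,
        Module.End.one_apply, sub_self, add_zero]
    have h3 : gW = gC⁻¹ * g := hcom.inv_right.eq
    rw [h3, act_mul, ← h1, Spinor.act_inv_cancel]
  have haCb : 0 < aC → p ^ (aC - 1) < finrank F C := by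
    intro h0
    by_contra hle
    have hTC : ∀ x ∈ C, T x ∈ C := fun x hx => by
      rw [hfix] at hx ⊢
      rw [← Module.End.mul_apply, ← hTS.eq, Module.End.mul_apply, hx]
    have hN : ∀ x ∈ C, (T - 1) x ∈ C := fun x hx => C.sub_mem (hTC x hx) hx
    have hcz : ∀ x ∈ C, ((T - 1) ^ finrank F C) x = 0 := fun x hx => by
      have hnil : IsNilpotent ((T - 1).restrict hN) := ⟨p ^ a, LinearMap.ext fun y => Subtype.ext (by
        rw [Module.End.pow_restrict (p ^ a)]
        show ((T - 1) ^ p ^ a) y.1 = 0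
        have e := congrArg (Polynomial.aeval T)
          (sub_pow_char_pow (R := Polynomial F) (p := p) (n := a) Polynomial.X 1)
        simp only [map_sub, map_pow, map_one, Polynomial.aeval_X, one_pow] at e
        rw [e, LinearMap.sub_apply, Module.End.one_apply, ← hPfix y.1 y.2, ← Module.End.mul_apply,
          hTp, sub_self])⟩
      have h1 := ((T - 1).restrict hN).aeval_self_charpoly
      rw [hnil.charpoly_eq_X_pow_finrank, map_pow, Polynomial.aeval_X] at h1
      have h4 := congrArg Subtype.val (LinearMap.congr_fun h1 ⟨x, hx⟩)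
      rw [Module.End.pow_restrict] at h4
      exact h4
    have h5 : gC ^ p ^ (aC - 1) = 1 := OddOrthSpectrum.actHom_injective (by
      rw [map_pow, hgC, split_pow hTP hPP, map_one]
      refine LinearMap.ext fun x => ?_
      have e := congrArg (Polynomial.aeval T)
        (sub_pow_char_pow (R := Polynomial F) (p := p) (n := aC - 1) Polynomial.X 1)
      simp only [map_sub, map_pow, map_one, Polynomial.aeval_X, one_pow] at e
      have h6 : ((T - 1) ^ p ^ (aC - 1)) (P x) = 0 := by
        rw [← Nat.sub_add_cancel (not_lt.1 hle), pow_add, Module.End.mul_apply, hcz _ (hPC x),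
          map_zero]
      rw [e, LinearMap.sub_apply, Module.End.one_apply, sub_eq_zero] at h6
      rw [LinearMap.add_apply, LinearMap.sub_apply, Module.End.mul_apply, h6, Module.End.one_apply,
        add_sub_cancel])
    have h6 := Nat.le_of_dvd (pow_pos hp.pos _) (orderOf_dvd_of_pow_eq_one h5)
    rw [haC] at h6
    have := Nat.pow_lt_pow_right hp.one_lt (show aC - 1 < aC by omega)
    omega
  -- a fixed vector of the right value
  by_cases hex : ∃ v ∈ C, sumQ Q (lineQ c) v = c
  · obtain ⟨v, hvC, hvc⟩ := hex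
    obtain ⟨σ, hσ⟩ := exists_move h2 (Q := sumQ Q (lineQ c)) (x := v) (y := eInf)
      (by rw [hvc]; exact hc) (by rw [hvc, sum_eInf])
    have hσ' : act σ⁻¹ eInf = v := by rw [← hσ, Spinor.act_inv_cancel]
    obtain ⟨h, hh⟩ := exists_left hQ h2 hc (σ * gW * σ⁻¹) (by
      rw [act_mul, act_mul, hσ', hWfix v hvC, hσ])
    have hhΩ : h ∈ Cfsg.Omega F ⇑Q := (leftHom_mem_omega hQ hL h2 h).1 (by
      rw [hh]; exact mul_mem_omega_conj hQ9 h2 σ gW hgWΩ)
    have hho : orderOf (⟨h, hhΩ⟩ : Cfsg.Omega F ⇑Q) = orderOf gW := by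
      rw [Subgroup.orderOf_mk, ← orderOf_injective _ (leftHom_injective Q (lineQ c)) h, hh]
      exact MulEquiv.orderOf_eq (MulAut.conj σ) gW
    rcases Nat.eq_zero_or_pos aC with h0 | hpos
    · obtain ⟨x, hx⟩ := exists_inl (Q := Q) ⟨h, hhΩ⟩
      refine ⟨x, hx ▸ hho ▸ ?_⟩
      rwa [h0, pow_zero, Nat.lcm_one_right] at hlcm
    let Lm : (ι → F) →ₗ[F] (ι ⊕ Unit → F) := act σ⁻¹ ∘ₗ
      (LinearEquiv.sumArrowLequivProdArrow ι Unit F F).symm.toLinearMap ∘ₗ LinearMap.inl F _ _
    have hLm : ∀ x, Lm x = act σ⁻¹ (Sum.elim x 0) := fun x => by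
      show act σ⁻¹ _ = _
      congr 1
    have hLi : Function.Injective Lm := fun x y e => by
      rw [hLm, hLm] at e
      have e1 := congrArg (act σ) e
      rw [← act_mul, ← act_mul, mul_inv_cancel, act_one, act_one] at e1
      exact funext fun i => congrFun e1 (Sum.inl i)
    have hperp : ∀ x, polB (sumQ Q (lineQ c)) v (Lm x) = 0 := fun x => by
      rw [hLm, polB_apply, ← hσ', act_polar]; exact polar_eInf Q c x
    have hLpol : ∀ x y, polB (sumQ Q (lineQ c)) (Lm x) (Lm y) = polB Q x y := fun x y => by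
      rw [hLm, hLm, polB_apply, act_polar, sumQ_polar]
      simp [polB_apply, QuadraticMap.polar_zero_left]
    have hvv : polB (sumQ Q (lineQ c)) v v ≠ 0 := by
      rw [OddOrthSpectrum.polB_self, hvc]; exact mul_ne_zero h2 hc
    obtain ⟨hC1n, -, hC1d⟩ := Bases.split_anisotropic (polB (sumQ Q (lineQ c)))
      (fun u w huw => by rw [polB_symm']; exact huw) hCn hvC hvv
    have hsurj : ∀ z, polB (sumQ Q (lineQ c)) v z = 0 → ∃ x, Lm x = z := fun z hz => by
      refine ⟨act σ z ∘ Sum.inl, ?_⟩
      rw [hLm]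
      have h3 : (act σ z ∘ Sum.inr : Unit → F) = 0 := by
        rw [polB_apply, ← act_polar σ, hσ, sumQ_polar] at hz
        simp only [eInf, Sum.elim_comp_inl, Sum.elim_comp_inr, QuadraticMap.polar_zero_left,
          zero_add] at hz
        simp only [QuadraticMap.polar, lineQ_apply, Pi.add_apply, Pi.one_apply] at hz
        exact funext fun _ => (mul_eq_zero.1 (show 2 * c * (act σ z ∘ Sum.inr) () = 0 by
          linear_combination hz)).resolve_left (mul_ne_zero h2 hc)
      rw [show Sum.elim (act σ z ∘ Sum.inl) (0 : Unit → F) = act σ z by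
        rw [← h3]; exact Sum.elim_comp_inl_inr _, Spinor.act_inv_cancel]
    set C8 := C.comap Lm with hC8
    have hmap : C8.map Lm = C ⊓ LinearMap.ker (polB (sumQ Q (lineQ c)) v) := by
      refine le_antisymm ?_ ?_
      · rintro _ ⟨x, hx, rfl⟩
        exact ⟨hx, hperp x⟩
      · rintro z ⟨hz1, hz2⟩
        obtain ⟨x, rfl⟩ := hsurj z hz2
        exact ⟨x, hz1, rfl⟩
    have hd8 : finrank F C8 + 1 = finrank F C := by
      rw [← hC1d, ← hmap, (Submodule.equivMapOfInjective Lm hLi C8).finrank_eq]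
    have hC8n : Bases.NondegOn (polB Q) C8 := fun x hx hxy => hLi (by
      rw [map_zero]
      refine hC1n _ ⟨hx, hperp x⟩ fun z hz => ?_
      rw [← hmap] at hz
      obtain ⟨y, hy, rfl⟩ := hz
      rw [hLpol]; exact hxy y hy)
    have hC8fix : ∀ x ∈ C8, act h x = x := fun x hx => by
      have h1 := hWfix _ (show Lm x ∈ C from hx)
      rw [hLm] at h1
      have h3 : act (σ * gW * σ⁻¹) (Sum.elim x 0) = Sum.elim x 0 := by
        rw [act_mul, act_mul, h1, ← act_mul, mul_inv_cancel, act_one]
      rw [← hh, act_left, Sum.elim_comp_inl, Sum.elim_comp_inr] at h3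
      exact funext fun i => congrFun h3 (Sum.inl i)
    have hge : 2 ≤ finrank F C := by
      have := haCb hpos
      have := Nat.one_le_pow (aC - 1) p hp.pos
      omega
    obtain ⟨x, hx⟩ := coreA (p := p) hQ h2 ⟨h, hhΩ⟩ hC8n
      (by rw [Nat.even_iff]; have := Nat.odd_iff.1 hcodd; omega) (by omega) hC8fix (a := aC)
      (by rw [hd8]; exact haCb hpos)
    rw [hho] at hx
    exact ⟨x, hlcm.trans hx⟩
  · have hc1 : finrank F C = 1 := by
      by_contra hne
      exact hex (exists_value_on h2 hCn (by have := hcodd.pos; omega) hc)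
    have haC0 : aC = 0 := by
      by_contra h0
      have := haCb (by omega)
      have := Nat.one_le_pow (aC - 1) p hp.pos
      omega
    have hgC1 : gC = 1 := by rw [← orderOf_eq_one_iff, haC, haC0, pow_zero]
    have hgWg : gW = g := by rw [hgW, hgC1, inv_one, mul_one]
    rw [hgWg] at hWfix
    obtain ⟨v, hvC, hv0⟩ := nondeg_val hCn rfl
      (fun h0 => by rw [h0, finrank_bot] at hc1; omega)
    have hns : ¬ IsSquare (c / sumQ Q (lineQ c) v) := by
      rintro ⟨t, ht⟩
      refine hex ⟨t • v, C.smul_mem t hvC, ?_⟩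
      rw [QuadraticMap.map_smul, smul_eq_mul, ← ht, div_mul_cancel₀ _ hv0]
    set d := sumQ Q (lineQ c) v with hdv
    have hR' := sumQ_nondeg hR (lineQ_nondeg h2 hv0)
    obtain ⟨f₀, hf₀⟩ := exists_isometry_dchi h2 hR' hQ9
      (by rw [Fintype.card_sum, Fintype.card_sum, hcard]) (by
        rw [dchi_sum hR (lineQ_nondeg h2 hv0), dchi_sum hQ hL, dchi_line, dchi_line,
          chi_mul h2 hv0, chi_mul h2 hc]
        have h3 : chi d = -chi c := by
          have h4 : chi c * chi d = -1 := by
            rw [← chi_mul hc hv0, chi_eq_neg_one_iff]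
            refine fun hsq => hns ?_
            have : c / d = c * d / (d * d) := by field_simp
            rw [this]
            exact hsq.div ⟨d, rfl⟩
          rcases Int.units_eq_one_or (chi c) with e | e <;> rw [e] at h4 ⊢ <;>
            simpa using h4
        rw [h3]
        rcases Int.units_eq_one_or (dchi Q) with e | e <;>
          rcases Int.units_eq_one_or (dchi R) with e' | e' <;> rw [e, e'] at hd ⊢ <;>
          first | exact absurd rfl hd | simp)
    obtain ⟨σ, hσ⟩ := exists_move h2 (Q := sumQ Q (lineQ c)) (x := f₀ eInf) (y := v)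
      (by rw [hf₀, sum_eInf]; exact hv0) (by rw [hf₀, sum_eInf])
    let σe : (ι ⊕ Unit → F) ≃ₗ[F] (ι ⊕ Unit → F) :=
      LinearEquiv.ofLinearMap (act σ) (act σ⁻¹)
        (LinearMap.ext fun x => by
          rw [LinearMap.comp_apply, ← act_mul, mul_inv_cancel, act_one]; rfl)
        (LinearMap.ext fun x => Spinor.act_inv_cancel σ x)
    let f : (κ ⊕ Unit → F) ≃ₗ[F] (ι ⊕ Unit → F) := f₀.trans σe
    have hf : ∀ x, sumQ Q (lineQ c) (f x) = sumQ R (lineQ d) x := fun x => by
      show sumQ Q (lineQ c) (act σ (f₀ x)) = _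
      rw [act_map, hf₀]
    have hf' : ∀ y, sumQ R (lineQ d) (f.symm y) = sumQ Q (lineQ c) y := fun y => by
      rw [← hf, f.apply_symm_apply]
    have hfe : f eInf = v := hσ
    obtain ⟨h, hh⟩ := exists_left hR h2 hv0 (xfer f.symm hf' g) (by
      rw [show (eInf : κ ⊕ Unit → F) = f.symm v by rw [← hfe, f.symm_apply_apply], act_xfer,
        hWfix v hvC])
    have hhΩ : h ∈ Cfsg.Omega F ⇑R := (leftHom_mem_omega hR (lineQ_nondeg h2 hv0) h2 h).1 (by
      rw [hh]; exact (xfer_mem_omega hQ9 hR' h2 _ hf' g).2 hg)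
    have hho : orderOf h = orderOf g := by
      rw [← orderOf_injective _ (leftHom_injective R (lineQ d)) h, hh,
        orderOf_injective _ (xfer_injective f.symm hf') g]
    obtain ⟨x, hx⟩ := hplus h hhΩ fun y hy => by
      set z := f (Sum.elim y 0) with hz
      have h1 : act g z = z := by
        refine f.symm.injective ?_
        rw [← act_xfer f.symm hf', ← hh, hz, f.symm_apply_apply, act_left, Sum.elim_comp_inl,
          Sum.elim_comp_inr, hy]
      have h3 : z ∈ C := (hfix z).2 (by
        rw [hSp]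
        have : ∀ n : ℕ, (T ^ n) z = z := fun n => by
          induction n with
          | zero => rfl
          | succ n ih => rw [pow_succ', Module.End.mul_apply, ih]; exact h1
        exact this i)
      obtain ⟨t, ht⟩ := (finrank_eq_one_iff_of_nonzero' (⟨v, hvC⟩ : C)
        (fun e => hv0 (by
          have e' : v = 0 := congrArg Subtype.val e
          rw [hdv, e', QuadraticMap.map_zero]))).1 hc1 ⟨z, h3⟩
      have ht' : t • v = z := congrArg Subtype.val ht
      rw [hz, ← hfe, ← map_smul] at ht'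
      have h4 := f.injective ht'
      have h5 : t = 0 := by simpa [eInf] using congrFun h4 (Sum.inr ())
      funext l
      simpa [eInf, h5] using (congrFun h4 (Sum.inl l)).symm
    exact ⟨x, hho ▸ hx⟩

end Cfsg.Agent.Classical.SpectrumNine
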