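import Cfsg.Agent.Lib.Classical.SelfRecipOrder
import Cfsg.Agent.Lib.Classical.SpectrumNine.Reduce

/-!
# The factors of the characteristic polynomial of an isometry without fixed vectors
-/

set_option autoImplicit false
set_option linter.unusedSectionVars false

namespace Cfsg.Agent.Classical.SpectrumNine

open Module Polynomial Cfsg.Agent.Forms Cfsg.Agent.Forms.QuadStd Cfsg.Agent.Forms.Reflections
open Cfsg.Agent.Classical Cfsg.Agent.Classical.OmegaCrit

local notation "rstar" => Cfsg.Agent.Classical.SelfRecipOrder.star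

variable {F : Type*} [Field F] [DecidableEq F]

/-- Half the degree for a self-reciprocal polynomial, the degree otherwise. -/
noncomputable def dd (f : F[X]) : ℕ := if rstar f = f then f.natDegree / 2 else f.natDegree

/-- The exponent killing the roots. -/
noncomputable def ww [Fintype F] (f : F[X]) : ℕ :=
  if rstar f = f then Fintype.card F ^ dd f + 1 else Fintype.card F ^ dd f - 1

variable [Fintype F] {ι : Type} [Fintype ι] [DecidableEq ι] {Q : QuadraticForm F (ι → F)}

/-- The shape of the characteristic polynomial. -/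
structure Shape (χ : F[X]) (n : ℕ) where
  T : Finset F[X]
  cnt : F[X] → ℕ
  c : ℕ
  irr : ∀ f ∈ T, Irreducible f
  monic : ∀ f ∈ T, f.Monic
  pos : ∀ f ∈ T, 1 ≤ cnt f
  not_one : ∀ f ∈ T, f ≠ X + 1 ∧ f ≠ X - 1
  prod : χ = (X + 1) ^ c * ∏ f ∈ T, f ^ cnt f
  star_mem : ∀ f ∈ T, rstar f ∈ T ∧ rstar (rstar f) = f ∧ cnt (rstar f) = cnt f ∧
    dd (rstar f) = dd f ∧ ww (rstar f) = ww f
  deg_self : ∀ f ∈ T, rstar f = f → f.natDegree = 2 * dd f
  deg_pair : ∀ f ∈ T, rstar f ≠ f → f.natDegree = dd f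
  dd_pos : ∀ f ∈ T, 1 ≤ dd f
  dvd : ∀ f ∈ T, f ∣ X ^ ww f - 1
  total : c + ∑ f ∈ T, cnt f * f.natDegree = n
  even : n % 2 = 0 → c % 2 = 0

theorem gramI_isUnit (hQ : (QuadraticMap.polarBilin Q).Nondegenerate) :
    IsUnit (AutPOmega.SSFusion.gramI Q) :=
  (Matrix.isUnit_iff_isUnit_det _).2 (isUnit_iff_ne_zero.2 (AutPOmega.SSFusion.gramI_det hQ))

theorem charpoly_inv_iso (hQ : (QuadraticMap.polarBilin Q).Nondegenerate)
    (g : Cfsg.isometryGroup F ⇑Q) :
    (AutPOmega.SSFusion.mx g)⁻¹.charpoly = (AutPOmega.SSFusion.mx g).charpoly := by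
  have h1 : (AutPOmega.SSFusion.mx g)⁻¹ = AutPOmega.SSFusion.mx g⁻¹ := by
    refine Matrix.inv_eq_right_inv ?_
    rw [← AutPOmega.SSFusion.mx_mul, mul_inv_cancel, AutPOmega.SSFusion.mx_one]
  obtain ⟨u, hu⟩ := gramI_isUnit hQ
  rw [h1, ← Matrix.charpoly_transpose (AutPOmega.SSFusion.mx g)]
  have h2 := AutPOmega.SSFusion.gramI_adj g
  rw [← hu] at h2
  have h3 : (AutPOmega.SSFusion.mx g).transpose =
      u.val * AutPOmega.SSFusion.mx g⁻¹ * u⁻¹.val := by
    rw [← h2, mul_assoc, Units.mul_inv, mul_one]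
  rw [h3, Matrix.coe_units_inv, Matrix.charpoly_units_conj]

theorem exists_shape (hQ : (QuadraticMap.polarBilin Q).Nondegenerate)
    (g : Cfsg.isometryGroup F ⇑Q) (h1 : (AutPOmega.SSFusion.mx g).charpoly.eval 1 ≠ 0) :
    Nonempty (Shape (AutPOmega.SSFusion.mx g).charpoly (Fintype.card ι)) := by
  classical
  set A := AutPOmega.SSFusion.mx g with hAdef
  have hA : IsUnit A := Units.isUnit _
  have hinv : A⁻¹.charpoly = A.charpoly := charpoly_inv_iso hQ g
  set χ := A.charpoly with hχ
  have hmon : χ.Monic := Matrix.charpoly_monic A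
  have hχ0 : χ.coeff 0 ≠ 0 := by
    intro h
    have hdet := (Matrix.isUnit_iff_isUnit_det A).1 hA
    rw [Matrix.det_eq_sign_charpoly_coeff, ← hχ, h, mul_zero] at hdet
    exact not_isUnit_zero hdet
  set s := UniqueFactorizationMonoid.normalizedFactors χ with hs
  have hsprod : s.prod = χ := by
    rw [hs, UniqueFactorizationMonoid.prod_normalizedFactors_eq hmon.ne_zero, hmon.normalize_eq_self]
  have hirr : ∀ f ∈ s, Irreducible f := fun f =>
    UniqueFactorizationMonoid.irreducible_of_normalized_factor f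
  have hnorm : ∀ f ∈ s, normalize f = f := fun f =>
    UniqueFactorizationMonoid.normalize_normalized_factor f
  have hmo : ∀ f ∈ s, f.Monic := fun f hf => hnorm f hf ▸ monic_normalize (hirr f hf).ne_zero
  have h0 : ∀ f ∈ s, f.coeff 0 ≠ 0 := by
    intro f hf h
    obtain ⟨r, hr⟩ := Multiset.dvd_prod hf
    rw [hsprod] at hr
    exact hχ0 (by rw [hr, mul_coeff_zero, h, zero_mul])
  have hstar : s.map rstar = s := by
    have h1' : Associated ((s.map Polynomial.reverse).prod) χ := by
      rw [show (s.map Polynomial.reverse).prod = χ.reverse by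
        rw [← hsprod]; exact (map_multiset_prod SelfRecipOrder.revHom s).symm]
      have h2 := Matrix.charpoly_inv A hA
      rw [hinv, ← Matrix.reverse_charpoly, ← hχ] at h2
      conv_rhs => rw [h2]
      refine associated_unit_mul_right _ _ (IsUnit.mul ((isUnit_one.neg).pow _) (isUnit_C.2 ?_))
      rw [Ring.inverse_eq_inv', isUnit_iff_ne_zero, ne_eq, inv_eq_zero]
      exact ((Matrix.isUnit_iff_isUnit_det A).1 hA).ne_zero
    have h3 : UniqueFactorizationMonoid.normalizedFactors ((s.map Polynomial.reverse).prod) = s := by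
      rw [hs]
      exact (UniqueFactorizationMonoid.associated_iff_normalizedFactors_eq_normalizedFactors
        ((h1'.ne_zero_iff).2 hmon.ne_zero) hmon.ne_zero).1 h1'
    rw [UniqueFactorizationMonoid.normalizedFactors_prod_eq _ (fun r hr => by
      obtain ⟨f, hf, rfl⟩ := Multiset.mem_map.1 hr
      exact SelfRecipOrder.irreducible_reverse (hirr f hf) (h0 f hf)), Multiset.map_map] at h3
    exact h3
  have hstar_mem : ∀ f ∈ s, rstar f ∈ s := fun f hf => hstar ▸ Multiset.mem_map_of_mem rstar hf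
  have hss : ∀ f ∈ s, rstar (rstar f) = f := by
    intro f hf
    have hne : f.reverse ≠ 0 := fun h => (hirr f hf).ne_zero (by rwa [reverse_eq_zero] at h)
    have h1' : Associated (rstar f).reverse f := by
      obtain ⟨u, hu⟩ : ∃ u : F, normalize f.reverse = f.reverse * C u :=
        ⟨_, by rw [normalize_apply, coe_normUnit]⟩
      have hu0 : u ≠ 0 := fun h => hne (normalize_eq_zero.1 (by rw [hu, h, C_0, mul_zero]))
      rw [SelfRecipOrder.star, hu, reverse_mul_of_domain, SelfRecipOrder.reverse_reverse' (h0 f hf), reverse_C]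
      exact associated_mul_unit_left _ _ (isUnit_C.2 (isUnit_iff_ne_zero.2 hu0))
    rw [SelfRecipOrder.star, normalize_eq_normalize h1'.dvd h1'.symm.dvd, hnorm f hf]
  have hcount : ∀ f ∈ s, s.count (rstar f) = s.count f := by
    intro f hf
    conv_lhs => rw [← hstar]
    exact Multiset.count_map_eq_count rstar s (fun x hx y hy h => by
      rw [← hss x hx, ← hss y hy, h]) f hf
  have hmone : ∀ f ∈ s, f ≠ X - 1 := by
    rintro f hf rfl
    obtain ⟨r, hr⟩ := Multiset.dvd_prod hf
    rw [hsprod] at hr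
    exact h1 (by rw [hr]; simp)
  set T := s.toFinset.erase (X + 1) with hT
  have hTs : ∀ f ∈ T, f ∈ s ∧ f ≠ X + 1 ∧ f ≠ X - 1 := fun f hf =>
    ⟨Multiset.mem_toFinset.1 (Finset.mem_of_mem_erase hf), Finset.ne_of_mem_erase hf,
      hmone f (Multiset.mem_toFinset.1 (Finset.mem_of_mem_erase hf))⟩
  have hstarone : rstar (X + 1 : F[X]) = X + 1 := by
    have : (X + 1 : F[X]).reverse = (X + 1) := by
      rw [← C_1, reverse, natDegree_X_add_C]
      ext i
      rcases i with _ | _ | i <;> simp [coeff_reflect, revAt, coeff_C, coeff_X, coeff_one, add_comm]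
    rw [SelfRecipOrder.star, this,
      (by simpa using monic_X_add_C (1 : F) : (X + 1 : F[X]).Monic).normalize_eq_self]
  have hsdeg : ∀ f ∈ s, (rstar f).natDegree = f.natDegree := fun f hf => by
    rw [SelfRecipOrder.star, natDegree_eq_of_degree_eq degree_normalize,
      SelfRecipOrder.natDegree_reverse_eq (h0 f hf)]
  have hmemT : ∀ f ∈ T, rstar f ∈ T := fun f hf => Finset.mem_erase.2
    ⟨fun h => (hTs f hf).2.1 (by rw [← hss f (hTs f hf).1, h, hstarone]),
      Multiset.mem_toFinset.2 (hstar_mem f (hTs f hf).1)⟩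
  have hdd : ∀ f ∈ T, dd (rstar f) = dd f ∧ ww (rstar f) = ww f := fun f hf => by
    by_cases hsf : rstar f = f
    · rw [hsf]; exact ⟨rfl, rfl⟩
    have hsf' : ¬ rstar (rstar f) = rstar f := fun h => hsf (h.symm.trans (hss f (hTs f hf).1))
    have he : dd (rstar f) = dd f := by
      rw [dd, dd, if_neg hsf, if_neg hsf', hsdeg f (hTs f hf).1]
    exact ⟨he, by rw [ww, ww, if_neg hsf, if_neg hsf', he]⟩
  have hself : ∀ f ∈ T, rstar f = f →
      f.natDegree = 2 * dd f ∧ 1 ≤ dd f ∧ f ∣ X ^ ww f - 1 := fun f hf hsf => by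
    obtain ⟨d, hd, hd1, hdv⟩ := (SelfRecipOrder.irreducible_dvd (hirr f (hTs f hf).1)
      (hmo f (hTs f hf).1) (h0 f (hTs f hf).1)).2 hsf (hTs f hf).2.2 (hTs f hf).2.1
    have he : dd f = d := by rw [dd, if_pos hsf, hd, Nat.mul_div_cancel_left d two_pos]
    rw [ww, if_pos hsf, he]
    exact ⟨hd, hd1, hdv⟩
  have hpair : ∀ f ∈ T, rstar f ≠ f →
      f.natDegree = dd f ∧ 1 ≤ dd f ∧ f ∣ X ^ ww f - 1 := fun f hf hsf => by
    have he : dd f = f.natDegree := by rw [dd, if_neg hsf]
    rw [ww, if_neg hsf, he]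
    exact ⟨rfl, (hirr f (hTs f hf).1).natDegree_pos, (SelfRecipOrder.irreducible_dvd
      (hirr f (hTs f hf).1) (hmo f (hTs f hf).1) (h0 f (hTs f hf).1)).1⟩
  have hall : ∀ f ∈ T, 1 ≤ dd f ∧ f ∣ X ^ ww f - 1 := fun f hf =>
    if h : rstar f = f then (hself f hf h).2 else (hpair f hf h).2
  have hprod : χ = (X + 1) ^ s.count (X + 1) * ∏ f ∈ T, f ^ s.count f := by
    rw [← hsprod, Finset.prod_multiset_count, hT]
    by_cases h : (X + 1 : F[X]) ∈ s.toFinset
    · rw [Finset.mul_prod_erase _ (fun f => f ^ s.count f) h]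
    · rw [Finset.erase_eq_of_notMem h, Multiset.count_eq_zero.2 fun h' =>
        h (Multiset.mem_toFinset.2 h'), pow_zero, one_mul]
  have htot : s.count (X + 1) + ∑ f ∈ T, s.count f * f.natDegree = Fintype.card ι := by
    rw [← Matrix.charpoly_natDegree_eq_dim A, ← hχ]
    conv_rhs => rw [hprod]
    rw [Monic.natDegree_mul ((by simpa using monic_X_add_C (1 : F) : (X + 1 : F[X]).Monic).pow _)
      (monic_prod_of_monic _ _ fun f hf => (hmo f (hTs f hf).1).pow _), natDegree_pow,
      natDegree_prod_of_monic _ _ fun f hf => (hmo f (hTs f hf).1).pow _]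
    simp only [natDegree_pow]
    rw [show (X + 1 : F[X]).natDegree = 1 by rw [← C_1]; exact natDegree_X_add_C 1, mul_one]
  refine ⟨⟨T, fun f => s.count f, s.count (X + 1), fun f hf => hirr f (hTs f hf).1,
    fun f hf => hmo f (hTs f hf).1, fun f hf => Multiset.one_le_count_iff_mem.2 (hTs f hf).1,
    fun f hf => (hTs f hf).2, hprod,
    fun f hf => ⟨hmemT f hf, hss f (hTs f hf).1, hcount f (hTs f hf).1, hdd f hf⟩,
    fun f hf h => (hself f hf h).1, fun f hf h => (hpair f hf h).1, fun f hf => (hall f hf).1,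
    fun f hf => (hall f hf).2, htot, fun hn => ?_⟩⟩
  have hev : ((∑ f ∈ T, s.count f * f.natDegree : ℕ) : ZMod 2) = 0 := by
    rw [Nat.cast_sum]
    refine Finset.sum_involution (fun f _ => rstar f) (fun f hf => ?_) (fun f hf hne hsf => hne ?_)
      (fun f hf => hmemT f hf) fun f hf => hss f (hTs f hf).1
    · rw [hcount f (hTs f hf).1, hsdeg f (hTs f hf).1, ← two_mul,
        show (2 : ZMod 2) = 0 from rfl, zero_mul]
    · rw [(hself f hf hsf).1, ← mul_assoc, mul_comm _ 2, mul_assoc, Nat.cast_mul,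
        show ((2 : ℕ) : ZMod 2) = 0 from rfl, zero_mul]
  rw [ZMod.natCast_eq_zero_iff_even, Nat.even_iff] at hev
  omega

/-- The weight of up to three classes. -/
theorem Shape.weight {χ : F[X]} {n : ℕ} (S : Shape χ n) (R : Finset F[X]) (hR : R ⊆ S.T)
    (hdis : ∀ f ∈ R, ∀ g ∈ R, f ≠ g → g ≠ rstar f) :
    S.c + 2 * ∑ f ∈ R, S.cnt f * dd f ≤ n := by
  classical
  refine le_of_le_of_eq (Nat.add_le_add_left ?_ _) S.total
  rw [Finset.mul_sum]
  have h1 : ∀ f ∈ R, 2 * (S.cnt f * dd f) = ∑ g ∈ ({f, rstar f} : Finset F[X]), S.cnt g * g.natDegree := by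
    intro f hf
    by_cases h : rstar f = f
    · rw [h, Finset.pair_eq_singleton, Finset.sum_singleton, S.deg_self f (hR hf) h]
      ring
    · obtain ⟨hm, hss, hc, hd, -⟩ := S.star_mem f (hR hf)
      rw [Finset.sum_pair (Ne.symm h), hc, S.deg_pair f (hR hf) h,
        S.deg_pair _ hm (fun e => h (e.symm.trans hss)), hd]
      ring
  rw [Finset.sum_congr rfl h1, ← Finset.sum_biUnion]
  · refine Finset.sum_le_sum_of_subset fun g hg => ?_
    obtain ⟨f, hf, hg⟩ := Finset.mem_biUnion.1 hg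
    rcases Finset.mem_insert.1 hg with rfl | hg
    · exact hR hf
    · rw [Finset.mem_singleton] at hg
      exact hg ▸ (S.star_mem f (hR hf)).1
  · intro f hf g hg hne
    refine Finset.disjoint_left.2 fun x hx hx' => ?_
    rw [Finset.mem_insert, Finset.mem_singleton] at hx hx'
    rcases hx with rfl | rfl <;> rcases hx' with e | e
    · exact hne e
    · exact hdis g hg x hf (Ne.symm hne) e
    · exact hdis f hf g hg hne e.symm
    · have e' := congrArg rstar e
      rw [(S.star_mem f (hR hf)).2.1, (S.star_mem g (hR hg)).2.1] at e'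
      exact hne e'

end Cfsg.Agent.Classical.SpectrumNine
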