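import Cfsg.Agent.Lib.Classical.SpectrumNine.Factors
import Cfsg.Agent.Lib.AutPOmega.SemisimpleFusion.Centralizer

/-!
# Exponents and square classes from the characteristic polynomial
-/

set_option autoImplicit false
set_option linter.unusedSectionVars false

namespace Cfsg.Agent.Classical.SpectrumNine

open Module Polynomial Cfsg.Agent.Forms Cfsg.Agent.Forms.QuadStd Cfsg.Agent.Forms.Reflections
open Cfsg.Agent.Classical Cfsg.Agent.Classical.OmegaCrit
open Cfsg.Agent.Classical.OddOrthSpectrum (actHom actHom_isom Isom)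
open Cfsg.Agent.AutPOmega.SSFusion (mx mx_mul mx_one gramI gramI_det skewOf skewOf_skew)

local notation "rstar" => Cfsg.Agent.Classical.SelfRecipOrder.star

variable {F : Type*} [Field F] [DecidableEq F] [Fintype F]
variable {R : QuadraticForm F (Fin 8 → F)}

theorem actHom_eq_toLin (g : Cfsg.isometryGroup F ⇑R) : actHom R g = Matrix.toLin' (mx g) :=
  LinearMap.ext fun x => by rw [Matrix.toLin'_apply]; exact act_apply g x

theorem charpoly_actHom (g : Cfsg.isometryGroup F ⇑R) :
    (actHom R g).charpoly = (mx g).charpoly := by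
  rw [actHom_eq_toLin, Matrix.charpoly_toLin']

theorem eval_one_ne {g : Cfsg.isometryGroup F ⇑R} (hfix : ∀ y, act g y = y → y = 0) :
    (mx g).charpoly.eval 1 ≠ 0 := by
  rw [Matrix.eval_charpoly]
  intro h0
  obtain ⟨v, hv, hv'⟩ := Matrix.exists_mulVec_eq_zero_iff.2 h0
  refine hv (hfix v ?_)
  rw [map_one, Matrix.sub_mulVec, Matrix.one_mulVec, sub_eq_zero] at hv'
  rw [act_apply]
  exact hv'.symm

/-- The exponent from the factors and their multiplicities; for `-1` one less suffices. -/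
theorem kill {p : ℕ} [Fact p.Prime] [CharP F p] (hR : (QuadraticMap.polarBilin R).Nondegenerate)
    (h2 : (2 : F) ≠ 0) (h : Cfsg.isometryGroup F ⇑R) (S : Shape (mx h).charpoly 8) (E e : ℕ)
    (hE : 2 ∣ E) (hT : ∀ f ∈ S.T, f ∣ X ^ E - 1 ∧ S.cnt f ≤ p ^ e)
    (hc : S.c ≤ 1 ∨ S.c - 1 ≤ p ^ e) : orderOf h ∣ E * p ^ e := by
  classical
  have hp : p.Prime := Fact.out
  have hpodd : Odd p := hp.odd_of_ne_two fun h' => h2 (by
    have := CharP.cast_eq_zero F p
    rw [h'] at this; exact_mod_cast this)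
  have hc1 : ((X + 1 : F[X])).Monic := by simpa using monic_X_add_C (1 : F)
  have hcirr : Irreducible (X + 1 : F[X]) := by
    rw [← C_1]; exact irreducible_of_degree_eq_one (degree_X_add_C 1)
  set Rp := ∏ f ∈ S.T, f ^ S.cnt f with hRp
  set T := actHom R h with hTdef
  have hChar : T.charpoly = (X + 1) ^ S.c * Rp := by rw [hTdef, charpoly_actHom]; exact S.prod
  have hcop : ∀ f ∈ S.T, IsCoprime (X + 1 : F[X]) f := fun f hf =>
    (hcirr.coprime_iff_not_dvd).2 fun hd => (S.not_one f hf).1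
      (eq_of_monic_of_associated hc1 (S.monic f hf) (hcirr.associated_of_dvd (S.irr f hf) hd)).symm
  have hRdvd : Rp ∣ (X ^ E - 1) ^ p ^ e := by
    refine Finset.prod_dvd_of_coprime (fun f hf g hg hne => IsCoprime.pow ?_) fun f hf =>
      (pow_dvd_pow f (hT f hf).2).trans (pow_dvd_pow_of_dvd (hT f hf).1 _)
    exact ((S.irr f hf).coprime_iff_not_dvd).2 fun hd => hne
      (eq_of_monic_of_associated (S.monic f hf) (S.monic g hg)
        ((S.irr f hf).associated_of_dvd (S.irr g hg) hd))
  obtain ⟨c', hc', hzero⟩ : ∃ c', c' ≤ p ^ e ∧ aeval T ((X + 1) ^ c' * Rp) = 0 := by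
    by_cases hle : S.c ≤ 1
    · refine ⟨S.c, hle.trans (Nat.one_le_pow _ _ hp.pos), ?_⟩
      rw [← hChar, LinearMap.aeval_self_charpoly]
    refine ⟨S.c - 1, hc.resolve_left hle, ?_⟩
    obtain ⟨k, a, i, j, hk, hord, hsu, hs, hu⟩ := split_order p hp h
    set S0 := actHom R (h ^ i) with hS0
    have hS0p : S0 = T ^ i := map_pow _ h i
    have hkF : (k : F) ≠ 0 := fun h0 => hk ((CharP.cast_eq_zero_iff F p k).1 h0)
    have hk2 : ((2 * k : ℕ) : F) ≠ 0 := by rw [Nat.cast_mul]; exact mul_ne_zero h2 hkF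
    have hSk : (-S0) ^ (2 * k) = 1 := by
      rw [pow_mul, show (-S0) ^ 2 = S0 ^ 2 by ext; simp [pow_two], ← pow_mul, mul_comm, pow_mul, hS0,
        ← map_pow, ← hs, pow_orderOf_eq_one, map_one, one_pow]
    have hneg : T - (-1 : F) • 1 = T + 1 := by ext; simp
    have hiso : Isom (polB R) (-S0) := fun u w => by
      simp only [LinearMap.neg_apply, map_neg, neg_neg]
      exact actHom_isom _ u w
    set U := LinearMap.ker (-S0 - 1) with hU
    have hUn := nondegOn_fix hk2 hSk hR hiso
    rw [← hU] at hUn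
    set P := avg (2 * k) (-S0) with hP
    have hTS : Commute T (-S0) := (hS0p ▸ (Commute.refl T).pow_right i).neg_right
    have hTP : Commute T P := commute_avg hTS
    have hUfix : ∀ x, x ∈ U ↔ (-S0) x = x := fun x => by rw [hU, LinearMap.mem_ker]; exact sub_eq_zero
    have hTU : ∀ x ∈ U, T x ∈ U := fun x hx => by
      rw [hUfix] at hx ⊢
      rw [← Module.End.mul_apply, ← hTS.eq, Module.End.mul_apply, hx]
    have hTp : T ^ p ^ a = S0 ^ p ^ a := by
      rw [hS0, hTdef, ← map_pow, ← map_pow]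
      congr 1
      conv_lhs => rw [hsu, ((Commute.refl h).pow_pow i j).mul_pow, ← hu, pow_orderOf_eq_one, mul_one]
      rw [hu]
    have hnil : ∀ x ∈ U, ((T - (-1 : F) • 1) ^ p ^ a) x = 0 := fun x hx => by
      have e1 : (T - (-1 : F) • 1) ^ p ^ a = S0 ^ p ^ a + 1 := by
        have h' := congrArg (aeval T) (add_pow_char_pow (R := F[X]) (p := p) (n := a) X 1)
        simp only [map_add, map_pow, map_one, aeval_X, one_pow] at h'
        rw [hneg, h', hTp]
      have e2 : (-S0) ^ p ^ a = -(S0 ^ p ^ a) := hpodd.pow.neg_pow S0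
      rw [e1, show S0 ^ p ^ a + 1 = 1 - (-S0) ^ p ^ a by rw [e2]; abel, LinearMap.sub_apply,
        Module.End.one_apply, sub_eq_zero]
      symm
      generalize p ^ a = n
      induction n with
      | zero => rfl
      | succ n ih => rw [pow_succ, Module.End.mul_apply, (hUfix x).1 hx, ih]
    have hdim : finrank F U ≤ S.c := by
      have hle : U ≤ T.maxGenEigenspace (-1) := fun x hx =>
        (Module.End.mem_maxGenEigenspace T (-1) x).2 ⟨p ^ a, hnil x hx⟩
      refine (Submodule.finrank_mono hle).trans (le_of_eq ?_)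
      rw [LinearMap.finrank_maxGenEigenspace_eq, hChar]
      have hne : ¬ IsRoot Rp (-1) := by
        intro hr
        rw [hRp, IsRoot, eval_prod, Finset.prod_eq_zero_iff] at hr
        obtain ⟨f, hf, hf0⟩ := hr
        rw [eval_pow] at hf0
        have := dvd_iff_isRoot.2 (pow_eq_zero_iff'.1 hf0).1
        rw [map_neg, sub_neg_eq_add, C_1] at this
        exact ((hcirr.coprime_iff_not_dvd).1 (hcop f hf)) this
      rw [show (X + 1 : F[X]) = X - C (-1) by rw [map_neg, C_1, sub_neg_eq_add],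
        rootMultiplicity_mul, rootMultiplicity_X_sub_C_pow, rootMultiplicity_eq_zero hne, add_zero]
      exact mul_ne_zero (pow_ne_zero _ (X_sub_C_ne_zero _)) fun h0 => hne (by rw [h0]; simp [IsRoot])
    have hev := S.even (by norm_num)
    have hU0 := nilp_even h2 (actHom_isom h) (ε := (-1 : F)) (by ring) hUn hTU hnil
      (Nat.even_iff.2 hev) (by omega) hdim
    rw [← hTdef, hneg] at hU0
    have hPU : ∀ x, P x ∈ U := fun x => (hUfix _).2 (fix_avg hSk x)
    refine LinearMap.ext fun x => ?_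
    rw [LinearMap.zero_apply, ← sub_add_cancel x (P x), map_add]
    have hy : aeval T ((X + 1) ^ (S.c - 1) * Rp) (P x) = 0 := by
      rw [mul_comm, map_mul, Module.End.mul_apply, map_pow, map_add, aeval_X, map_one]
      rw [hU0 _ (hPU x), map_zero]
    rw [hy, add_zero]
    set z := x - P x with hz
    have hz0 : P z = 0 := by rw [hz, map_sub, avg_of_fix hk2 (fix_avg hSk x), sub_self]
    set w := aeval T Rp z with hw
    have hcomm : ∀ q : F[X], Commute (aeval T q) P := fun q => by
      induction q using Polynomial.induction_on' with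
      | add q r hq hr => rw [map_add]; exact hq.add_left hr
      | monomial n t =>
        rw [aeval_monomial, ← Algebra.smul_def]
        exact (hTP.pow_left n).smul_left t
    have hw0 : P w = 0 := by
      rw [hw, ← Module.End.mul_apply, ← (hcomm Rp).eq, Module.End.mul_apply, hz0, map_zero]
    have hinj : ∀ y, P y = 0 → (T + 1) y = 0 → y = 0 := by
      intro y hy0 hy1
      rw [LinearMap.add_apply, Module.End.one_apply, add_eq_zero_iff_eq_neg] at hy1
      by_contra hne
      have hTy : ∀ n : ℕ, (T ^ n) y = (-1 : F) ^ n • y := fun n => by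
        induction n with
        | zero => simp
        | succ n ih => rw [pow_succ', Module.End.mul_apply, ih, map_smul, hy1, pow_succ, mul_smul,
            neg_smul, one_smul]
      have hij : (-1 : F) ^ (i + j) = -1 := by
        have e : T ^ (i + j) = T := by rw [hTdef, ← map_pow, pow_add, ← hsu]
        have := hTy (i + j)
        rw [e, hy1, ← neg_one_smul F y] at this
        exact (smul_left_injective F hne this).symm
      have hj : (-1 : F) ^ j = 1 := by
        have e : T ^ (j * p ^ a) = 1 := by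
          rw [hTdef, ← map_pow, pow_mul, ← hu, pow_orderOf_eq_one, map_one]
        have h' := hTy (j * p ^ a)
        rw [e, Module.End.one_apply, pow_mul] at h'
        have h'' : ((-1 : F) ^ j) ^ p ^ a = 1 := by
          refine (smul_left_injective F hne ?_).symm
          simpa using h'
        rcases neg_one_pow_eq_or F j with h3 | h3
        · exact h3
        · rw [h3, hpodd.pow.neg_one_pow] at h''
          exact absurd h'' (fun h4 => h2 (by linear_combination -h4))
      rw [pow_add, hj, mul_one] at hij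
      have hyU : y ∈ U := (hUfix y).2 (by
        rw [LinearMap.neg_apply, hS0p, hTy, hij, neg_smul, one_smul, neg_neg])
      exact hne (by rw [← avg_of_fix hk2 ((hUfix y).1 hyU)]; exact hy0)
    have hall : ∀ m : ℕ, ∀ y, P y = 0 → ((T + 1) ^ m) y = 0 → y = 0 := by
      intro m
      induction m with
      | zero => intro y _ h0; simpa using h0
      | succ m ih =>
        intro y hy0 h0
        rw [pow_succ, Module.End.mul_apply] at h0
        refine hinj y hy0 (ih _ ?_ h0)
        rw [← Module.End.mul_apply, ← ((hTP.add_left (Commute.one_left P))).eq,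
          Module.End.mul_apply, hy0, map_zero]
    have hwz : w = 0 := hall S.c w hw0 (by
      have hch := LinearMap.congr_fun T.aeval_self_charpoly z
      rw [hChar, map_mul, Module.End.mul_apply, map_pow, map_add, aeval_X, map_one] at hch
      exact hch)
    rw [map_mul, Module.End.mul_apply, ← hw, hwz, map_zero]
  have hdvd : (X + 1) ^ c' * Rp ∣ (X ^ E - 1 : F[X]) ^ p ^ e := by
    refine IsCoprime.mul_dvd ?_ ?_ hRdvd
    · exact IsCoprime.prod_right fun f hf => (hcop f hf).pow
    · refine (pow_dvd_pow _ hc').trans (pow_dvd_pow_of_dvd ?_ _)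
      rw [← C_1, show (X + C 1 : F[X]) = X - C (-1) by rw [map_neg, sub_neg_eq_add],
        dvd_iff_isRoot, IsRoot, eval_sub, eval_pow, eval_X, eval_C,
        (even_iff_two_dvd.2 hE).neg_one_pow, sub_self]
  have hkill : (aeval T ((X ^ E - 1 : F[X]) ^ p ^ e)) = 0 := by
    obtain ⟨q, hq⟩ := hdvd
    rw [hq, map_mul, hzero, zero_mul]
  rw [sub_pow_char_pow, one_pow, map_sub, map_one, map_pow, map_pow, aeval_X, ← pow_mul,
    sub_eq_zero] at hkill
  rw [← OddOrthSpectrum.actHom_injective.eq_iff.trans orderOf_dvd_iff_pow_eq_one.symm, map_pow,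
    map_one]
  exact hkill

/-- In plus type the values at `1` and `-1` multiply to a square. -/
theorem isSquare_eval (hR : (QuadraticMap.polarBilin R).Nondegenerate) (h2 : (2 : F) ≠ 0)
    (hd : dchi R = 1) {h : Cfsg.isometryGroup F ⇑R} (hΩ : h ∈ Cfsg.Omega F ⇑R)
    (h1 : (mx h).charpoly.eval 1 ≠ 0) (hm1 : (mx h).charpoly.eval (-1) ≠ 0) :
    IsSquare ((mx h).charpoly.eval 1 * (mx h).charpoly.eval (-1)) := by
  classical
  set A := mx h
  have hdet : A.det = 1 := by
    have hp : par h = 1 :=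
      congrArg Prod.fst ((mem_omega_iff hR (Or.inl (card_ne_two h2)) h).1 hΩ)
    rw [det_eq_par hR (Or.inl (card_ne_two h2)), hp]
    simp
  have e1 : A.charpoly.eval 1 = (A - 1).det := by
    rw [Matrix.eval_charpoly, map_one, ← neg_sub A 1, Matrix.det_neg, Fintype.card_fin]
    norm_num
  have e2 : A.charpoly.eval (-1) = (A + 1).det := by
    rw [Matrix.eval_charpoly, map_neg, map_one, show -1 - A = -(A + 1) by abel, Matrix.det_neg,
      Fintype.card_fin]
    norm_num
  have hinv : mx h⁻¹ * A = 1 := by rw [← mx_mul, inv_mul_cancel, mx_one]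
  have e3 : (A - mx h⁻¹).det = A.charpoly.eval 1 * A.charpoly.eval (-1) := by
    rw [e1, e2, ← Matrix.det_mul, ← mul_one (A - mx h⁻¹).det, ← hdet, ← Matrix.det_mul]
    congr 1
    rw [sub_mul, hinv, sub_mul, one_mul, mul_add, mul_one]
    abel
  set J : Matrix (Fin 4 ⊕ Fin 4) (Fin 4 ⊕ Fin 4) F := Matrix.fromBlocks 0 1 (-1) 0 with hJ
  set P' : Matrix (Fin 8) (Fin 8) F := J.submatrix (finSumFinEquiv (m := 4) (n := 4)).symm
    (finSumFinEquiv (m := 4) (n := 4)).symm with hP'
  have hP'd : P'.det = 1 := by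
    rw [hP', Matrix.det_submatrix_equiv_self, hJ,
      show Matrix.fromBlocks (0 : Matrix (Fin 4) (Fin 4) F) 1 (-1) 0 =
        Matrix.fromBlocks 0 1 1 0 * Matrix.fromBlocks (-1) 0 0 1 by simp [Matrix.fromBlocks_multiply],
      Matrix.det_mul, Disc.det_swap_blocks, Matrix.det_fromBlocks_zero₂₁, Matrix.det_neg]
    norm_num
  have hP'a : ∀ v, dotProduct v (P'.mulVec v) = 0 := fun v => by
    refine AutPOmega.SSFusion.dot_alt_of_skew h2 ?_ v
    have hJt : J.transpose = -J := by
      simp [hJ, Matrix.fromBlocks_transpose, Matrix.fromBlocks_neg]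
    rw [hP', Matrix.transpose_submatrix, hJt]
    rfl
  have hskd : (skewOf h).det ≠ 0 := by
    rw [skewOf, Matrix.det_mul, e3]
    exact mul_ne_zero (gramI_det hR) (mul_ne_zero h1 hm1)
  obtain ⟨t, ht0, ht⟩ := AutPOmega.SSFusion.alt_det_class (M := 4) (by norm_num)
    (AutPOmega.SSFusion.dot_alt_of_skew h2 (skewOf_skew h)) hP'a hskd (by rw [hP'd]; exact one_ne_zero)
  rw [skewOf, Matrix.det_mul, e3, hP'd, mul_one] at ht
  have hg : IsSquare (gramI R).det := by
    have : gramI R = Disc.gram (polB R) (Pi.basisFun F (Fin 8)) := by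
      ext x y; simp [gramI, Disc.gram, polB_apply]
    rw [this]
    exact chi_eq_one_iff.1 hd
  obtain ⟨u, hu⟩ := hg
  have hu0 : u ≠ 0 := fun e => gramI_det hR (by rw [hu, e, mul_zero])
  refine ⟨t / u, ?_⟩
  rw [hu] at ht
  field_simp
  linear_combination ht

/-- Without the eigenvalue `-1` the value there is a square on `Ω`. -/
theorem isSquare_cayley (hR : (QuadraticMap.polarBilin R).Nondegenerate) (h2 : (2 : F) ≠ 0)
    {h : Cfsg.isometryGroup F ⇑R} (hΩ : h ∈ Cfsg.Omega F ⇑R)
    (hm1 : (mx h).charpoly.eval (-1) ≠ 0) : IsSquare ((mx h).charpoly.eval (-1)) := by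
  have e2 : (mx h).charpoly.eval (-1) = (1 + mx h).det := by
    rw [Matrix.eval_charpoly, map_neg, map_one, show -1 - mx h = -(1 + mx h) by abel,
      Matrix.det_neg, Fintype.card_fin]
    norm_num
  rw [e2] at hm1 ⊢
  have ht := AutPOmega.SSFusion.theta_cayley hR h2 (Or.inl (card_ne_two h2)) h hm1
  rw [(mem_omega_iff hR (Or.inl (card_ne_two h2)) h).1 hΩ] at ht
  have h3 : chi (((2 : F)⁻¹) ^ 8 * (1 + mx h).det) = 1 := (congrArg Prod.snd ht).symm
  have h20 : ((2 : F)⁻¹) ^ 8 ≠ 0 := pow_ne_zero _ (inv_ne_zero h2)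
  rw [chi_mul h20 hm1, chi_eq_one_iff.2 ⟨((2 : F)⁻¹) ^ 4, by ring⟩, one_mul] at h3
  exact chi_eq_one_iff.1 h3

/-- An irreducible factor of degree four paired with its reciprocal. -/
theorem half_pair (h2 : (2 : F) ≠ 0) {f : F[X]} (hf : Irreducible f) (hm : f.Monic)
    (hd : f.natDegree = 4) (h0 : IsSquare (f.coeff 0)) (hne : f.coeff 0 ≠ 0) :
    f ∣ X ^ ((Fintype.card F ^ 4 - 1) / 2) - 1 := by
  haveI : Fact (Irreducible f) := ⟨hf⟩
  haveI : Module.Finite F (AdjoinRoot f) := (AdjoinRoot.powerBasis hf.ne_zero).finite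
  haveI : Finite (AdjoinRoot f) := Module.finite_of_finite F
  set q := Fintype.card F with hq
  have hq1 : 1 < q := Fintype.one_lt_card
  have hqodd : q % 2 = 1 := Nat.not_even_iff.1 fun he => h2 (by
    have : CharP F 2 := ringChar.of_eq ((FiniteField.even_card_iff_char_two).2 (Nat.even_iff.1 he))
    exact CharTwo.two_eq_zero)
  rw [SelfRecipOrder.dvd_iff_aeval_root, map_sub, map_pow, aeval_X, map_one, sub_eq_zero]
  have hN : Algebra.norm F (AdjoinRoot.root f) = f.coeff 0 := by
    rw [← AdjoinRoot.powerBasis_gen hf.ne_zero, Algebra.PowerBasis.norm_gen_eq_coeff_zero_minpoly,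
      AdjoinRoot.powerBasis_dim, AdjoinRoot.minpoly_powerBasis_gen_of_monic hm, hd]
    ring
  have hpow := FiniteField.algebraMap_norm_eq_pow (K := F) (x := AdjoinRoot.root f)
  have hc : Nat.card (AdjoinRoot f) = q ^ 4 := by
    rw [Module.natCard_eq_pow_finrank (K := F), Nat.card_eq_fintype_card,
      (AdjoinRoot.powerBasis hf.ne_zero).finrank, AdjoinRoot.powerBasis_dim, hd]
  rw [hN, hc, Nat.card_eq_fintype_card, ← hq] at hpow
  have hdiv : q - 1 ∣ q ^ 4 - 1 := Nat.sub_one_dvd_pow_sub_one q 4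
  have h2d : 2 ∣ q - 1 := by omega
  have harith : (q ^ 4 - 1) / (q - 1) * ((q - 1) / 2) = (q ^ 4 - 1) / 2 := by
    rw [← Nat.mul_div_assoc _ h2d, Nat.div_mul_cancel hdiv]
  obtain ⟨t, ht⟩ := h0
  rw [← harith, pow_mul, ← hpow, ← map_pow, ht, ← sq, ← pow_mul, Nat.mul_div_cancel' h2d, hq,
    FiniteField.pow_card_sub_one_eq_one t (fun e => hne (by rw [ht, e, mul_zero])), map_one]

/-- An irreducible self-reciprocal polynomial of degree eight. -/
theorem not_square_self (h2 : (2 : F) ≠ 0) {f : F[X]} (hf : Irreducible f) (hm : f.Monic)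
    (hd : f.natDegree = 8) (hdv : f ∣ X ^ (Fintype.card F ^ 4 + 1) - 1) (hne : f.eval 1 ≠ 0) :
    ¬ IsSquare (f.eval 1 * f.eval (-1)) := by
  haveI : Fact (Irreducible f) := ⟨hf⟩
  haveI : Module.Finite F (AdjoinRoot f) := (AdjoinRoot.powerBasis hf.ne_zero).finite
  haveI : Finite (AdjoinRoot f) := Module.finite_of_finite F
  set q := Fintype.card F with hq
  have hq1 : 1 < q := Fintype.one_lt_card
  have hqodd : q % 2 = 1 := Nat.not_even_iff.1 fun he => h2 (by
    have : CharP F 2 := ringChar.of_eq ((FiniteField.even_card_iff_char_two).2 (Nat.even_iff.1 he))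
    exact CharTwo.two_eq_zero)
  set α := AdjoinRoot.root f with hα
  rw [SelfRecipOrder.dvd_iff_aeval_root, map_sub, map_pow, aeval_X, map_one, sub_eq_zero,
    ← hα] at hdv
  have hN : ∀ t : F, Algebra.norm F (algebraMap F (AdjoinRoot f) t - α) = f.eval t := fun t => by
    let pb := AdjoinRoot.powerBasis hf.ne_zero
    conv_rhs => rw [← AdjoinRoot.minpoly_powerBasis_gen_of_monic hm,
      ← charpoly_leftMulMatrix pb, Matrix.eval_charpoly]
    rw [Algebra.norm_eq_matrix_det pb.basis, map_sub, AlgHom.commutes]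
    rfl
  have hα0 : α ≠ 0 := fun e => by rw [e, zero_pow (by omega)] at hdv; exact zero_ne_one hdv
  set y := (1 - α) * (-1 - α) with hy
  have hNy : Algebra.norm F y = f.eval 1 * f.eval (-1) := by
    rw [hy, map_mul, ← hN, ← hN, map_one, map_neg, map_one]
  intro hsq
  obtain ⟨t, ht⟩ := hsq
  obtain ⟨pc, hpc⟩ := CharP.exists F
  obtain ⟨n, hpp, hqn⟩ := FiniteField.card F pc
  haveI : Fact pc.Prime := ⟨hpp⟩
  haveI : CharP (AdjoinRoot f) pc :=
    charP_of_injective_algebraMap (algebraMap F (AdjoinRoot f)).injective pc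
  have hq4 : q ^ 4 = pc ^ ((n : ℕ) * 4) := by rw [hq, hqn, pow_mul]
  have hyy : y = α ^ 2 - 1 := by rw [hy]; ring
  have hinv : α ^ q ^ 4 = α⁻¹ := eq_inv_of_mul_eq_one_left (by rw [← pow_succ]; exact hdv)
  have hfrob : y ^ q ^ 4 = -(α⁻¹ ^ 2) * y := by
    rw [hyy]
    conv_lhs => rw [hq4, sub_pow_char_pow, one_pow, ← hq4, ← pow_mul, mul_comm 2, pow_mul, hinv]
    field_simp
    ring
  have hy0 : y ≠ 0 := fun e => by
    rw [hyy, sub_eq_zero] at e
    have h3 : f ∣ X ^ 2 - 1 := by
      rw [SelfRecipOrder.dvd_iff_aeval_root, map_sub, map_pow, aeval_X, map_one, ← hα, e, sub_self]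
    have h4 := natDegree_le_of_dvd h3 (X_pow_sub_C_ne_zero two_pos (1 : F) |> fun h => by simpa using h)
    rw [hd, ← C_1, natDegree_X_pow_sub_C] at h4
    omega
  have h5 : y ^ (q ^ 4 - 1) = -(α⁻¹ ^ 2) := by
    refine mul_right_cancel₀ hy0 ?_
    rw [← pow_succ, Nat.sub_add_cancel (Nat.one_le_pow _ _ (by omega)), hfrob]
  have hpow := FiniteField.algebraMap_norm_eq_pow (K := F) (x := y)
  have hc : Nat.card (AdjoinRoot f) = q ^ 8 := by
    rw [Module.natCard_eq_pow_finrank (K := F), Nat.card_eq_fintype_card,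
      (AdjoinRoot.powerBasis hf.ne_zero).finrank, AdjoinRoot.powerBasis_dim, hd]
  rw [hNy, hc, Nat.card_eq_fintype_card, ← hq] at hpow
  have hdiv : q - 1 ∣ q ^ 8 - 1 := Nat.sub_one_dvd_pow_sub_one q 8
  have h2d : 2 ∣ q - 1 := by omega
  have h4odd : q ^ 4 % 2 = 1 := by rw [Nat.pow_mod, hqodd]
  have h41 : 2 ∣ q ^ 4 + 1 := by omega
  have harith : (q ^ 4 - 1) * ((q ^ 4 + 1) / 2) = (q ^ 8 - 1) / (q - 1) * ((q - 1) / 2) := by
    rw [← Nat.mul_div_assoc _ h2d, Nat.div_mul_cancel hdiv, ← Nat.mul_div_assoc _ h41]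
    congr 1
    have : q ^ 8 = (q ^ 4) ^ 2 := by ring
    rw [this, show 1 = 1 ^ 2 from rfl, Nat.sq_sub_sq, one_pow, mul_comm]
  have ht0 : t ≠ 0 := fun e => by
    have : Algebra.norm F y = 0 := by rw [hNy, ht, e, mul_zero]
    exact hy0 (Algebra.norm_eq_zero_iff.1 this)
  have hone : y ^ ((q ^ 4 - 1) * ((q ^ 4 + 1) / 2)) = 1 := by
    rw [harith, pow_mul, ← hpow, ← map_pow, ht, ← sq, ← pow_mul, Nat.mul_div_cancel' h2d, hq,
      FiniteField.pow_card_sub_one_eq_one t ht0, map_one]
  obtain ⟨l, hl⟩ : Odd ((q ^ 4 + 1) / 2) := by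
    rw [Nat.odd_iff]
    have : q ^ 4 % 4 = 1 := by
      rw [Nat.pow_mod]
      rcases (show q % 4 = 1 ∨ q % 4 = 3 by omega) with e | e <;> rw [e]
    omega
  rw [pow_mul, h5, Odd.neg_pow ⟨l, hl⟩, ← pow_mul, Nat.mul_div_cancel' h41, inv_pow, hdv, inv_one]
    at hone
  exact h2 ((map_eq_zero (algebraMap F (AdjoinRoot f))).1 (by
    rw [map_ofNat]; linear_combination -hone))

end Cfsg.Agent.Classical.SpectrumNine
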