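import Cfsg.Agent.Lib.Classical.SpectrumNine.Realise
import Cfsg.Agent.Lib.OrthMult.OddMain

/-!
# `PΩ₉(q)` and `q⁸ ⋊ Ω⁻₈(q)` have the same element orders
-/

set_option autoImplicit false
set_option linter.unusedSectionVars false

namespace Cfsg.Agent.Classical.SpectrumNine

open Module Cfsg.Agent.Forms Cfsg.Agent.Forms.QuadStd Cfsg.Agent.Forms.Reflections
open Cfsg.Agent.Classical Cfsg.Agent.Classical.OmegaCrit Cfsg.Agent.Classical.OmegaSum
open Cfsg.Agent.Classical.OrthForms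
open Cfsg.Agent.AutPOmega.SSFusion (xfer)

universe u

variable {F : Type u} [Field F] [Fintype F]

theorem dchi_minQ (h2 : (2 : F) ≠ 0) {a b : F}
    (hab : ∀ z₁ z₂ : F, z₁ ^ 2 + a * z₁ * z₂ + b * z₂ ^ 2 = 0 → z₁ = 0 ∧ z₂ = 0) :
    dchi (minQ F 3 a b) = -1 := by
  rcases Int.units_eq_one_or (dchi (minQ F 3 a b)) with e | e
  swap
  · exact e
  exfalso
  have hQ := minQ_nondeg 3 hab
  obtain ⟨X, hX, hXX⟩ := (Disc.exists_lagrangian_iff h2 (polB (minQ F 3 a b))
    OddOrthSpectrum.polB_symm hQ (m := 4)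
    (by rw [Module.finrank_pi]; simp) (Pi.basisFun F _)).2 (by
      rw [(show Even 4 by decide).neg_one_pow, one_mul]; exact chi_eq_one_iff.1 e)
  refine OrthTypes.not_isPlus_minQ (k := 3) hab ⟨X, fun x hx => ?_, hX⟩
  have h := hXX x hx x hx
  rw [OddOrthSpectrum.polB_self] at h
  exact (mul_eq_zero.1 h).resolve_left h2

theorem exists_dvd_range {G : Type*} [Group G] [Finite G] {n : ℕ} {g : G} (h : n ∣ orderOf g) :
    n ∈ Set.range (orderOf : G → ℕ) :=
  ⟨g ^ (orderOf g / n), orderOf_pow_orderOf_div (orderOf_pos g).ne' h⟩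

theorem spectrum_eq {p : ℕ} [Fact p.Prime] [CharP F p] (h2 : (2 : F) ≠ 0) {a b : F}
    (hab : ∀ z₁ z₂ : F, z₁ ^ 2 + a * z₁ * z₂ + b * z₂ ^ 2 = 0 → z₁ = 0 ∧ z₂ = 0) :
    Set.range (orderOf : Cfsg.POmega F ⇑(oddQ F 4) → ℕ) =
      Set.range (orderOf : HGroup ⇑(minQ F 3 a b) → ℕ) := by
  classical
  set Q := minQ F 3 a b with hQdef
  have hQ := minQ_nondeg 3 hab
  have hO := oddQ_nondeg (F := F) h2 4
  have hd := dchi_minQ h2 hab
  have hcard : Fintype.card ((Fin 3 ⊕ Fin 3) ⊕ Fin 2) = 8 := by simp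
  haveI : Finite (HGroup ⇑Q) := Finite.of_equiv _ SemidirectProduct.equivProd.symm
  obtain ⟨α, hα0, hα⟩ := OmegaCrit.exists_nonsquare (F := F) h2
  obtain ⟨c, hc, hcd⟩ : ∃ c : F, c ≠ 0 ∧ dchi Q * dchi (lineQ c) = dchi (oddQ F 4) := by
    have h1 : ∀ c : F, c ≠ 0 → dchi Q * dchi (lineQ c) = dchi Q * (chi (2 : F) * chi c) := fun c hc => by
      rw [dchi_line, chi_mul h2 hc]
    rcases Int.units_eq_one_or (dchi Q * chi (2 : F) * dchi (oddQ F 4)) with e | e
    · refine ⟨1, one_ne_zero, ?_⟩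
      rw [h1 1 one_ne_zero, chi_one, mul_one]
      exact eq_of_div_eq_one (by rwa [div_eq_mul_inv, Int.units_inv_eq_self])
    · refine ⟨α, hα0, ?_⟩
      rw [h1 α hα0, hα, ← mul_assoc]
      refine eq_of_div_eq_one ?_
      rw [div_eq_mul_inv, Int.units_inv_eq_self, mul_right_comm, e]
      rfl
  have hL := lineQ_nondeg h2 hc
  obtain ⟨f, hf⟩ := exists_isometry_dchi h2 (sumQ_nondeg hQ hL) hO (by simp)
    (by rw [dchi_sum hQ hL, hcd])
  have hf' : ∀ y, sumQ Q (lineQ c) (f.symm y) = oddQ F 4 y := fun y => by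
    rw [← hf, f.apply_symm_apply]
  have hz : Subgroup.center (Cfsg.Omega F ⇑(oddQ F 4)) = ⊥ :=
    Subgroup.card_eq_one.1 (OrthMult.card_center_omega (by norm_num) h2)
  have hmk : ∀ g : Cfsg.Omega F ⇑(oddQ F 4),
      orderOf (QuotientGroup.mk g : Cfsg.POmega F ⇑(oddQ F 4)) = orderOf g := fun g => by
    refine orderOf_injective (QuotientGroup.mk' (Subgroup.center (Cfsg.Omega F ⇑(oddQ F 4)))) ?_ g
    rw [← MonoidHom.ker_eq_bot_iff, QuotientGroup.ker_mk', hz]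
  obtain ⟨R, hR, hRd⟩ := exists_form (F := F) h2 4 (by norm_num) 1
  refine Set.ext fun m => ⟨?_, ?_⟩
  · rintro ⟨x, rfl⟩
    induction x using QuotientGroup.induction_on with | H g => ?_
    rw [hmk g]
    let g' : Cfsg.Omega F ⇑(sumQ Q (lineQ c)) :=
      ⟨xfer f.symm hf' g.1, (xfer_mem_omega hO (sumQ_nondeg hQ hL) h2 _ hf' g.1).2 g.2⟩
    have hg' : orderOf g' = orderOf g := by
      rw [← Subgroup.orderOf_coe g', ← Subgroup.orderOf_coe g]
      exact orderOf_injective _ (xfer_injective f.symm hf') g.1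
    obtain ⟨x, hx⟩ := dirA (p := p) hQ h2 (by rw [hcard]; decide) hc R hR
      (by rw [hcard]; rfl) (by rw [hRd, hd]; decide)
      (fun h hh hfix => by
        have hb := bound (p := p) hR h2 hRd h hh hfix
        exact realise (p := p) hQ h2 hcard hd hb) g'
    exact exists_dvd_range (hg' ▸ hx)
  · rintro ⟨x, rfl⟩
    obtain ⟨g, hg⟩ := dirB (p := p) hQ h2 (by rw [hcard]; decide) hc x
    let g' : Cfsg.Omega F ⇑(oddQ F 4) :=
      ⟨xfer f hf g.1, (xfer_mem_omega (sumQ_nondeg hQ hL) hO h2 _ hf g.1).2 g.2⟩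
    have hg' : orderOf g' = orderOf g := by
      rw [← Subgroup.orderOf_coe g', ← Subgroup.orderOf_coe g]
      exact orderOf_injective _ (xfer_injective f hf) g.1
    exact exists_dvd_range (g := (QuotientGroup.mk g' : Cfsg.POmega F ⇑(oddQ F 4)))
      (by rw [hmk, hg']; exact hg)

end Cfsg.Agent.Classical.SpectrumNine
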