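import Cfsg.Agent.Lib.Classical.OmegaSum
import Cfsg.Agent.Lib.Classical.SpectrumNine.Affine
import Cfsg.Agent.Lib.AutPOmega.SemisimpleFusion.Centralizer
import Cfsg.Agent.Lib.Forms.Disc

/-!
# Discriminants and stabilizers of vectors
-/

set_option autoImplicit false
set_option linter.unusedSectionVars false

namespace Cfsg.Agent.Classical.SpectrumNine

open Module Matrix Cfsg.Agent.Forms Cfsg.Agent.Forms.QuadStd Cfsg.Agent.Forms.Reflections
open Cfsg.Agent.Classical Cfsg.Agent.Classical.OmegaCrit Cfsg.Agent.Classical.OmegaSum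
open Cfsg.Agent.AutPOmega.SSFusion (xfer act_xfer theta_xfer)

variable {F : Type*} [Field F] [Fintype F]
variable {ι κ : Type} [Fintype ι] [DecidableEq ι] [Fintype κ] [DecidableEq κ]

/-- The class of the discriminant of the polar form. -/
noncomputable def dchi (Q : QuadraticForm F (ι → F)) : ℤˣ :=
  chi (Disc.gram (polB Q) (Pi.basisFun F ι)).det

theorem disc_ne {Q : QuadraticForm F (ι → F)} (hQ : (QuadraticMap.polarBilin Q).Nondegenerate) :
    (Disc.gram (polB Q) (Pi.basisFun F ι)).det ≠ 0 :=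
  Disc.det_gram_ne_zero hQ _

theorem dchi_sum {Q : QuadraticForm F (ι → F)} {R : QuadraticForm F (κ → F)}
    (hQ : (QuadraticMap.polarBilin Q).Nondegenerate) (hR : (QuadraticMap.polarBilin R).Nondegenerate) :
    dchi (sumQ Q R) = dchi Q * dchi R := by
  rw [dchi, dchi, dchi, ← chi_mul (disc_ne hQ) (disc_ne hR)]
  congr 1
  rw [← Matrix.det_fromBlocks_zero₁₂ _ (0 : Matrix κ ι F) _]
  congr 1
  have hl : ∀ i : ι, (Pi.single (Sum.inl i) 1 : ι ⊕ κ → F) ∘ Sum.inl = Pi.single i 1 :=
    fun i => funext fun j => by simp [Pi.single_apply]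
  have hr : ∀ i : ι, (Pi.single (Sum.inl i) 1 : ι ⊕ κ → F) ∘ Sum.inr = 0 :=
    fun i => funext fun j => by simp
  have hl' : ∀ i : κ, (Pi.single (Sum.inr i) 1 : ι ⊕ κ → F) ∘ Sum.inl = 0 :=
    fun i => funext fun j => by simp
  have hr' : ∀ i : κ, (Pi.single (Sum.inr i) 1 : ι ⊕ κ → F) ∘ Sum.inr = Pi.single i 1 :=
    fun i => funext fun j => by simp [Pi.single_apply]
  ext (i | i) (j | j) <;>
    simp [Disc.gram, polB_apply, sumQ_polar, hl, hr, hl', hr']

theorem exists_isometry_dchi (h2 : (2 : F) ≠ 0) {Q : QuadraticForm F (ι → F)}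
    {R : QuadraticForm F (κ → F)} (hQ : (QuadraticMap.polarBilin Q).Nondegenerate)
    (hR : (QuadraticMap.polarBilin R).Nondegenerate) (hc : Fintype.card ι = Fintype.card κ)
    (hd : dchi Q = dchi R) :
    ∃ e : (ι → F) ≃ₗ[F] (κ → F), ∀ x, R (e x) = Q x := by
  obtain ⟨e, he⟩ := Disc.exists_isometry h2 (polB Q) OddOrthSpectrum.polB_symm hQ (polB R)
    OddOrthSpectrum.polB_symm hR (by rw [Module.finrank_pi, Module.finrank_pi, hc])
    (Pi.basisFun F ι) (Pi.basisFun F κ)
    (by
      rw [← chi_eq_one_iff, chi_mul (disc_ne hQ) (disc_ne hR)]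
      show dchi Q * dchi R = 1
      rw [hd, Int.units_mul_self])
  refine ⟨e, fun x => mul_left_cancel₀ h2 ?_⟩
  rw [← OddOrthSpectrum.polB_self, ← OddOrthSpectrum.polB_self, he]

theorem dchi_eq_of_isometry (h2 : (2 : F) ≠ 0) {Q : QuadraticForm F (ι → F)}
    {R : QuadraticForm F (κ → F)} (hQ : (QuadraticMap.polarBilin Q).Nondegenerate)
    (e : (ι → F) ≃ₗ[F] (κ → F)) (he : ∀ x, R (e x) = Q x) : dchi Q = dchi R := by
  have hg : Disc.gram (polB R) ((Pi.basisFun F ι).map e) = Disc.gram (polB Q) (Pi.basisFun F ι) := by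
    ext i j
    simp [Disc.gram, polB_apply, QuadraticMap.polar, ← map_add, he]
  obtain ⟨d, hd, hde⟩ := Disc.det_gram_change (polB R) (Pi.basisFun F κ) ((Pi.basisFun F ι).map e)
  have h0 := disc_ne hQ
  rw [← hg, hde] at h0
  rw [dchi, dchi, ← hg, hde, chi_mul (mul_ne_zero hd hd) (right_ne_zero_of_mul h0),
    chi_eq_one_iff.2 ⟨d, rfl⟩, one_mul]

theorem polB_symm' {Q : QuadraticForm F (ι → F)} (x y : ι → F) : polB Q x y = polB Q y x :=
  QuadraticMap.polar_comm _ x y

/-- Vectors with one non-zero value are moved by isometries. -/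
theorem exists_move (h2 : (2 : F) ≠ 0) {Q : QuadraticForm F (ι → F)} {x y : ι → F}
    (hx : Q x ≠ 0) (h : Q x = Q y) : ∃ σ : Cfsg.isometryGroup F ⇑Q, act σ x = y := by
  have hexp : ∀ z : ι → F, Q z = Q x → Q (x - z) = QuadraticMap.polar Q (x - z) x := fun z hz => by
    simp only [sub_eq_add_neg, QuadraticMap.map_add Q, QuadraticMap.map_neg,
      QuadraticMap.polar_add_left, QuadraticMap.polar_self, QuadraticMap.polar_neg_left,
      QuadraticMap.polar_neg_right, QuadraticMap.polar_comm _ z x, hz, nsmul_eq_mul]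
    push_cast
    ring
  have key : ∀ z : ι → F, Q z = Q x → Q (x - z) ≠ 0 → act (reflect Q (x - z)) x = z := fun z hz hne => by
    rw [act_reflect, ← hexp z hz, inv_mul_cancel₀ hne, one_smul, sub_sub_cancel]
  by_cases h1 : Q (x - y) = 0
  · have h1' : Q (x - -y) ≠ 0 := fun h3 => by
      have hsum : Q (x - y) + Q (x - -y) = (2 * 2) * Q x := by
        simp only [sub_eq_add_neg, neg_neg, QuadraticMap.map_add Q, QuadraticMap.map_neg,
          QuadraticMap.polar_neg_right, ← h]
        ring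
      rw [h1, h3, add_zero] at hsum
      exact mul_ne_zero (mul_ne_zero h2 h2) hx hsum.symm
    have hy : Q y ≠ 0 := h ▸ hx
    refine ⟨reflect Q y * reflect Q (x - -y), ?_⟩
    rw [act_mul, key (-y) (by rw [QuadraticMap.map_neg, h]) h1', act_reflect,
      QuadraticMap.polar_neg_right, QuadraticMap.polar_self, two_nsmul]
    rw [mul_neg, mul_add, inv_mul_cancel₀ hy, neg_smul, add_smul, one_smul]
    abel
  · exact ⟨_, key y h.symm h1⟩

/-- The form `c t ^ 2`. -/
noncomputable def lineQ (c : F) : QuadraticForm F (Unit → F) :=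
  QuadraticMap.weightedSumSquares F fun _ : Unit => c

theorem lineQ_apply (c : F) (v : Unit → F) : lineQ c v = c * (v () * v ()) := by
  simp [lineQ, QuadraticMap.weightedSumSquares_apply]

theorem lineQ_nondeg (h2 : (2 : F) ≠ 0) {c : F} (hc : c ≠ 0) :
    (QuadraticMap.polarBilin (lineQ c)).Nondegenerate := by
  have h : ∀ x, (∀ y, QuadraticMap.polar (lineQ c) x y = 0) → x = 0 := fun x hx => by
    have h1 := hx fun _ => 1
    simp only [QuadraticMap.polar, lineQ_apply, Pi.add_apply] at h1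
    funext i
    exact (mul_eq_zero.1 (show 2 * c * x i = 0 by linear_combination h1)).resolve_left
      (mul_ne_zero h2 hc)
  exact ⟨fun x hx => h x hx, fun x hx => h x fun y => (QuadraticMap.polar_comm _ x y).trans (hx y)⟩

theorem dchi_line (c : F) : dchi (lineQ c) = chi (2 * c) := by
  rw [dchi]
  congr 1
  simp [Matrix.det_unique, Disc.gram, polB_apply, QuadraticMap.polar, lineQ_apply]
  ring

/-- The last coordinate vector. -/
def eInf : ι ⊕ Unit → F := Sum.elim 0 1

theorem sum_eInf (Q : QuadraticForm F (ι → F)) (c : F) : sumQ Q (lineQ c) eInf = c := by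
  simp [sumQ_eq, eInf, lineQ_apply]

theorem polar_eInf (Q : QuadraticForm F (ι → F)) (c : F) (x : ι → F) :
    QuadraticMap.polar (sumQ Q (lineQ c)) eInf (Sum.elim x 0) = 0 := by
  simp [sumQ_polar, eInf, QuadraticMap.polar_zero_left, QuadraticMap.polar_zero_right]

theorem leftHom_injective (Q : QuadraticForm F (ι → F)) (R : QuadraticForm F (κ → F)) :
    Function.Injective (leftHom Q R) := fun g g' h => iso_ext fun x => by
  have h1 := congrArg (fun k => act k (Sum.elim x 0) ∘ Sum.inl) h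
  simp only [leftHom, MonoidHom.comp_apply, MonoidHom.inl_apply, act_block, Sum.elim_comp_inl] at h1
  rw [← act_apply, ← act_apply]
  exact h1

theorem act_left (Q : QuadraticForm F (ι → F)) (R : QuadraticForm F (κ → F))
    (g : Cfsg.isometryGroup F ⇑Q) (v : ι ⊕ κ → F) :
    act (leftHom Q R g) v = Sum.elim (act g (v ∘ Sum.inl)) (v ∘ Sum.inr) := by
  simp [leftHom, act_block, act_one]

theorem leftHom_mem_omega {Q : QuadraticForm F (ι → F)} {R : QuadraticForm F (κ → F)}
    (hQ : (QuadraticMap.polarBilin Q).Nondegenerate) (hR : (QuadraticMap.polarBilin R).Nondegenerate)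
    (h2 : (2 : F) ≠ 0) (g : Cfsg.isometryGroup F ⇑Q) :
    leftHom Q R g ∈ Cfsg.Omega F ⇑(sumQ Q R) ↔ g ∈ Cfsg.Omega F ⇑Q := by
  rw [mem_omega_iff (sumQ_nondeg hQ hR) (Or.inl (card_ne_two h2)),
    mem_omega_iff hQ (Or.inl (card_ne_two h2)), theta_left hQ hR]

/-- The stabilizer of the last coordinate vector. -/
theorem exists_left {Q : QuadraticForm F (ι → F)} {c : F}
    (hQ : (QuadraticMap.polarBilin Q).Nondegenerate) (h2 : (2 : F) ≠ 0) (hc : c ≠ 0)
    (g : Cfsg.isometryGroup F ⇑(sumQ Q (lineQ c))) (hg : act g eInf = eInf) :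
    ∃ h, leftHom Q (lineQ c) h = g := by
  have hr : ∀ x : ι → F, act g (Sum.elim x 0) ∘ Sum.inr = 0 := fun x => by
    have h1 := act_polar g eInf (Sum.elim x 0)
    rw [hg, polar_eInf, sumQ_polar] at h1
    have h3 : (act g (Sum.elim x 0) ∘ Sum.inr) () = 0 := by
      simp only [eInf, Sum.elim_comp_inl, Sum.elim_comp_inr, QuadraticMap.polar_zero_left,
        zero_add] at h1
      simp only [QuadraticMap.polar, lineQ_apply, Pi.add_apply, Pi.one_apply] at h1
      exact (mul_eq_zero.1 (show 2 * c * (act g (Sum.elim x 0) ∘ Sum.inr) () = 0 by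
        linear_combination h1)).resolve_left (mul_ne_zero h2 hc)
    exact funext fun _ => h3
  let T : Module.End F (ι → F) :=
    { toFun := fun x => act g (Sum.elim x 0) ∘ Sum.inl
      map_add' := fun x y => by
        rw [show (Sum.elim (x + y) 0 : ι ⊕ Unit → F) = Sum.elim x 0 + Sum.elim y 0 by
          funext i; rcases i with i | i <;> simp, map_add]
        rfl
      map_smul' := fun t x => by
        rw [show (Sum.elim (t • x) 0 : ι ⊕ Unit → F) = t • Sum.elim x 0 by
          funext i; rcases i with i | i <;> simp, map_smul]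
        rfl }
  obtain ⟨h, hh⟩ := exists_iso hQ T fun x => by
    have h1 := act_map g (Sum.elim x 0)
    rw [sumQ_eq] at h1
    simpa [hr, T] using h1
  refine ⟨h, iso_ext fun v => ?_⟩
  rw [← act_apply, ← act_apply, act_left]
  have hv : v = Sum.elim (v ∘ Sum.inl) 0 + v (Sum.inr ()) • eInf := by
    funext i; rcases i with i | i <;> simp [eInf]
  conv_rhs => rw [hv, map_add, map_smul, hg]
  have hTl : act h (v ∘ Sum.inl) = act g (Sum.elim (v ∘ Sum.inl) 0) ∘ Sum.inl :=
    LinearMap.congr_fun hh (v ∘ Sum.inl)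
  funext i
  rcases i with i | i
  · simp [eInf, hTl]
  · have := congrFun (hr (v ∘ Sum.inl)) i
    simp only [Function.comp_apply, Pi.zero_apply] at this
    simp [eInf, this]

theorem xfer_injective {Q : QuadraticForm F (ι → F)} {R : QuadraticForm F (κ → F)}
    (f : (ι → F) ≃ₗ[F] (κ → F)) (hf : ∀ x, R (f x) = Q x) :
    Function.Injective (xfer f hf) := fun g g' h => iso_ext fun x => by
  rw [← act_apply, ← act_apply]
  refine f.injective ?_
  rw [← act_xfer f hf, ← act_xfer f hf, h]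

theorem xfer_mem_omega {Q : QuadraticForm F (ι → F)} {R : QuadraticForm F (κ → F)}
    (hQ : (QuadraticMap.polarBilin Q).Nondegenerate) (hR : (QuadraticMap.polarBilin R).Nondegenerate)
    (h2 : (2 : F) ≠ 0) (f : (ι → F) ≃ₗ[F] (κ → F)) (hf : ∀ x, R (f x) = Q x)
    (g : Cfsg.isometryGroup F ⇑Q) :
    xfer f hf g ∈ Cfsg.Omega F ⇑R ↔ g ∈ Cfsg.Omega F ⇑Q := by
  rw [mem_omega_iff hR (Or.inl (card_ne_two h2)), mem_omega_iff hQ (Or.inl (card_ne_two h2)),
    theta_xfer hQ (Or.inl (card_ne_two h2)) hR]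

theorem mul_mem_omega_conj {Q : QuadraticForm F (ι → F)}
    (hQ : (QuadraticMap.polarBilin Q).Nondegenerate) (h2 : (2 : F) ≠ 0)
    (σ g : Cfsg.isometryGroup F ⇑Q) (hg : g ∈ Cfsg.Omega F ⇑Q) :
    σ * g * σ⁻¹ ∈ Cfsg.Omega F ⇑Q := by
  rw [mem_omega_iff hQ (Or.inl (card_ne_two h2))] at hg ⊢
  rw [map_mul, map_mul, hg, mul_one, map_inv, mul_inv_cancel]

end Cfsg.Agent.Classical.SpectrumNine
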