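import Cfsg.Agent.Lib.Classical.OmegaPlus
import Cfsg.Agent.Lib.Classical.SpectrumNine.Model

/-!
# Cyclic tori of orthogonal groups
-/

set_option autoImplicit false
set_option linter.unusedSectionVars false

namespace Cfsg.Agent.Classical.SpectrumNine

open Module Matrix Cfsg.Agent.Forms Cfsg.Agent.Forms.QuadStd Cfsg.Agent.Forms.Reflections
open Cfsg.Agent.Forms.PlusStd
open Cfsg.Agent.Classical Cfsg.Agent.Classical.OmegaCrit

variable {F : Type*} [Field F] [Fintype F]

theorem chi_unit_pow (d : ℕ) : chi ((-1 : F) ^ d) = chi (-1 : F) ^ d := by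
  induction d with
  | zero => rw [pow_zero, pow_zero, chi_one]
  | succ d ih =>
    rw [pow_succ, pow_succ, chi_mul (pow_ne_zero _ (neg_ne_zero.2 one_ne_zero))
      (neg_ne_zero.2 one_ne_zero), ih]

/-- The split torus. -/
theorem exists_hyp (h2 : (2 : F) ≠ 0) (d : ℕ) (hd : 1 ≤ d) :
    ∃ (Q : QuadraticForm F (Fin d ⊕ Fin d → F)) (a : Cfsg.isometryGroup F ⇑Q),
      (QuadraticMap.polarBilin Q).Nondegenerate ∧ dchi Q = chi ((-1 : F) ^ d) ∧ par a = 1 ∧
      orderOf a = Fintype.card F ^ d - 1 := by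
  classical
  obtain ⟨p, hchar⟩ := CharP.exists F
  obtain ⟨n, hp, -⟩ := FiniteField.card F p
  haveI : Fact p.Prime := ⟨hp⟩
  haveI : NeZero d := ⟨by omega⟩
  let K := FiniteField.Extension F p d
  letI : Fintype K := Fintype.ofFinite K
  obtain ⟨g, hg⟩ := IsCyclic.exists_ofOrder_eq_natCard (α := Kˣ)
  let b : Basis (Fin d) F K := finBasisOfFinrankEq F K (FiniteField.finrank_extension F p d)
  let φ : Kˣ →* GL (Fin d) F := Units.map (Algebra.leftMulMatrix b).toMonoidHom
  have hφ : Function.Injective φ := Units.map_injective (Algebra.leftMulMatrix_injective b)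
  refine ⟨plusQ F d, OmegaPlus.leviIso (φ g), plusQ_nondeg F d, ?_, OmegaPlus.par_levi (Or.inl (card_ne_two h2)) _, ?_⟩
  · rw [dchi]
    congr 1
    rw [← Disc.det_swap_blocks d]
    congr 1
    ext (i | i) (j | j) <;>
      simp [Disc.gram, polB_apply, plusQ_polar, Pi.single_apply, Matrix.one_apply, eq_comm]
  · have hl : Function.Injective (OmegaPlus.leviIso (F := F) (m := d)) := fun A B h => by
      have h1 := congrArg (fun k : Cfsg.isometryGroup F ⇑(plusQ F d) =>
        ((k : GL (Fin d ⊕ Fin d) F) : Matrix (Fin d ⊕ Fin d) (Fin d ⊕ Fin d) F).toBlocks₁₁) h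
      simp only [OmegaPlus.leviIso_val, Matrix.toBlocks_fromBlocks₁₁] at h1
      exact Units.ext h1
    rw [orderOf_injective _ hl, orderOf_injective _ hφ, hg, Nat.card_units,
      FiniteField.natCard_extension, Nat.card_eq_fintype_card]

/-- The torus of order `q ^ d + 1`. -/
theorem exists_ell (h2 : (2 : F) ≠ 0) (d : ℕ) (hd : 1 ≤ d) :
    ∃ (Q : QuadraticForm F (Fin (2 * d) → F)) (a : Cfsg.isometryGroup F ⇑Q),
      (QuadraticMap.polarBilin Q).Nondegenerate ∧ dchi Q = -chi ((-1 : F) ^ d) ∧ par a = 1 ∧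
      orderOf a = Fintype.card F ^ d + 1 := by
  classical
  obtain ⟨p, hchar⟩ := CharP.exists F
  obtain ⟨n, hp, hqn⟩ := FiniteField.card F p
  haveI : Fact p.Prime := ⟨hp⟩
  haveI : NeZero (2 * d) := ⟨by omega⟩
  set q := Fintype.card F with hq
  have hq1 : 1 < q := Fintype.one_lt_card
  have hqodd : q % 2 = 1 := Nat.not_even_iff.1 fun he => h2 (by
    have : CharP F 2 := ringChar.of_eq ((FiniteField.even_card_iff_char_two).2 (Nat.even_iff.1 he))
    exact CharTwo.two_eq_zero)
  let K := FiniteField.Extension F p (2 * d)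
  letI : Fintype K := Fintype.ofFinite K
  haveI : CharP K p := charP_of_injective_algebraMap (algebraMap F K).injective p
  have hK2 : (2 : K) ≠ 0 := fun h => h2 ((map_eq_zero (algebraMap F K)).1 (by rw [map_ofNat]; exact h))
  obtain ⟨g, hg⟩ := IsCyclic.exists_ofOrder_eq_natCard (α := Kˣ)
  have hcard : Nat.card K = q ^ (2 * d) := by
    rw [FiniteField.natCard_extension, Nat.card_eq_fintype_card]
  have hgo : orderOf g = q ^ (2 * d) - 1 := by rw [hg, Nat.card_units, hcard]
  set qd := q ^ d with hqd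
  have hqd1 : 2 ≤ qd := le_trans hq1 (Nat.le_self_pow (by omega) q)
  have hqdodd : qd % 2 = 1 := by simp [hqd, Nat.pow_mod, hqodd]
  have hfull : q ^ (2 * d) - 1 = (qd + 1) * (qd - 1) := by
    rw [show q ^ (2 * d) - 1 = qd ^ 2 - 1 ^ 2 by rw [one_pow, hqd, ← pow_mul, mul_comm],
      Nat.sq_sub_sq]
  let σ : K ≃ₐ[F] K := FiniteField.frobeniusAlgEquivOfAlgebraic F K ^ d
  have hσ : ∀ x : K, σ x = x ^ qd := fun x => by
    show (FiniteField.frobeniusAlgEquivOfAlgebraic F K ^ d) x = _
    rw [AlgEquiv.coe_pow, FiniteField.coe_frobeniusAlgEquivOfAlgebraic_iterate]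
  have hσσ : ∀ x, σ (σ x) = x := fun x => by
    rw [hσ, hσ, ← pow_mul, hqd, ← pow_add, ← two_mul, ← hcard, Nat.card_eq_fintype_card,
      FiniteField.pow_card]
  let b : Basis (Fin (2 * d)) F K :=
    finBasisOfFinrankEq F K (FiniteField.finrank_extension F p (2 * d))
  let E : (Fin (2 * d) → F) ≃ₗ[F] K := b.equivFun.symm
  let bf : K →ₗ[F] K →ₗ[F] F :=
    ((LinearMap.mul F K).compl₂ σ.toLinearMap).compr₂ (Algebra.trace F K)
  have hbf : ∀ x y, bf x y = Algebra.trace F K (x * σ y) := fun x y => rfl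
  let Q : QuadraticForm F (Fin (2 * d) → F) :=
    LinearMap.BilinMap.toQuadraticMap (bf.compl₁₂ E.toLinearMap E.toLinearMap)
  have hQ : ∀ x, Q x = Algebra.trace F K (E x * σ (E x)) := fun x => rfl
  have hpol : ∀ x y, QuadraticMap.polar Q x y = 2 * Algebra.trace F K (E x * σ (E y)) := by
    intro x y
    simp only [QuadraticMap.polar, hQ]
    rw [← map_sub, ← map_sub, show E (x + y) * σ (E (x + y)) - E x * σ (E x) - E y * σ (E y) =
      E x * σ (E y) + E y * σ (E x) by rw [map_add, map_add]; ring, map_add,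
      ← Algebra.trace_eq_of_algEquiv σ (E y * σ (E x)), map_mul σ, hσσ, mul_comm (σ (E y))]
    ring
  have hnd : (QuadraticMap.polarBilin Q).Nondegenerate := by
    have h : ∀ x, (∀ y, QuadraticMap.polar Q x y = 0) → x = 0 := fun x hx => by
      refine E.map_eq_zero_iff.1 ((traceForm_nondegenerate F K).1 _ fun w => ?_)
      have := hx (E.symm (σ w))
      rw [hpol, E.apply_symm_apply, hσσ] at this
      exact (mul_eq_zero.1 this).resolve_left h2
    exact ⟨fun x hx => h x hx, fun x hx => h x fun y => (QuadraticMap.polar_comm _ x y).trans (hx y)⟩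
  let M : K → Module.End F (Fin (2 * d) → F) := fun z =>
    E.symm.toLinearMap ∘ₗ LinearMap.mul F K z ∘ₗ E.toLinearMap
  have hM : ∀ z x, E (M z x) = z * E x := fun z x => by simp [M]
  have hMdet : ∀ z, LinearMap.det (M z) = Algebra.norm F z := fun z => by
    have h := LinearMap.det_conj (LinearMap.mul F K z) E.symm
    rw [LinearEquiv.symm_symm] at h
    exact h
  set z : Kˣ := g ^ (qd - 1) with hzdef
  have hzo : orderOf z = qd + 1 := by
    rw [hzdef, orderOf_pow_of_dvd (by omega) (by rw [hgo, hfull]; exact dvd_mul_left _ _), hgo,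
      hfull, Nat.mul_div_cancel _ (by omega)]
  have hz1 : (z : K) * σ z = 1 := by
    rw [hσ, ← pow_succ', ← Units.val_pow_eq_pow_val, ← hzo, pow_orderOf_eq_one, Units.val_one]
  obtain ⟨a, ha⟩ := exists_iso hnd (M z) fun x => by
    rw [hQ, hQ, hM, map_mul σ]
    congr 1
    linear_combination (E x * σ (E x)) * hz1
  have hdiv : q - 1 ∣ q ^ (2 * d) - 1 := Nat.sub_one_dvd_pow_sub_one q _
  have hnorm : ∀ u : K, algebraMap F K (Algebra.norm F u) = u ^ ((q ^ (2 * d) - 1) / (q - 1)) :=
    fun u => by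
      rw [FiniteField.algebraMap_norm_eq_pow, hcard, Nat.card_eq_fintype_card]
  -- the determinant of the generator
  have hzN : Algebra.norm F (z : K) = 1 := by
    apply (algebraMap F K).injective
    obtain ⟨r, hr⟩ : q - 1 ∣ qd - 1 := Nat.sub_one_dvd_pow_sub_one q d
    rw [map_one, hnorm, hfull, hr, ← mul_assoc, mul_comm (qd + 1) (q - 1), mul_assoc,
      Nat.mul_div_cancel_left _ (by omega), pow_mul, ← Units.val_pow_eq_pow_val, ← hzo,
      pow_orderOf_eq_one, Units.val_one, one_pow]
  -- the discriminant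
  set w : Kˣ := g ^ ((qd + 1) / 2) with hwdef
  have h2d : 2 ∣ qd + 1 := by omega
  have h2q : 2 ∣ q - 1 := by omega
  have hσw : σ (w : K) = -w := by
    have h1 : w ^ (qd - 1) * w ^ (qd - 1) = 1 := by
      rw [← pow_add, hwdef, ← pow_mul, ← two_mul, ← mul_assoc, Nat.div_mul_cancel h2d, ← hfull,
        ← hgo, pow_orderOf_eq_one]
    have h2' : (w : K) ^ (qd - 1) = -1 := by
      refine (mul_self_eq_one_iff.1 (by
        rw [← Units.val_pow_eq_pow_val, ← Units.val_mul, h1, Units.val_one])).resolve_left fun e => ?_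
      rw [← Units.val_pow_eq_pow_val, Units.val_eq_one, hwdef, ← pow_mul] at e
      have h4 := Nat.le_of_dvd (Nat.mul_pos (by omega) (by omega)) (orderOf_dvd_of_pow_eq_one e)
      rw [hgo, hfull] at h4
      have h5 : (qd + 1) / 2 * (qd - 1) < (qd + 1) * (qd - 1) :=
        Nat.mul_lt_mul_of_pos_right (by omega) (by omega)
      omega
    rw [hσ, show qd = qd - 1 + 1 by omega, pow_succ, h2']
    ring
  let G : Matrix (Fin (2 * d)) (Fin (2 * d)) F := Disc.gram (polB Q) (Pi.basisFun F _)
  let W : Matrix (Fin (2 * d)) (Fin (2 * d)) F := LinearMap.toMatrix' (M w)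
  let P : Matrix (Fin (2 * d)) (Fin (2 * d)) F := W.transpose * G
  have hskew : ∀ v, dotProduct v (P.mulVec v) = 0 := fun v => by
    have e : polB Q (M w v) v = 0 := by
      have h3 : polB Q (M w v) v = -polB Q (M w v) v := by
        conv_lhs => rw [polB_symm']
        simp only [polB_apply, hpol, hM, map_mul, hσw]
        rw [show E v * (-(w : K) * σ (E v)) = -((w : K) * E v * σ (E v)) by ring, map_neg, mul_neg]
      exact (mul_eq_zero.1 (show 2 * polB Q (M w v) v = 0 by linear_combination h3)).resolve_left h2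
    have hG : polB Q = Matrix.toBilin' G := LinearMap.BilinForm.ext_basis (Pi.basisFun F _) fun i j => by
      simp [Matrix.toBilin'_single, G, Disc.gram]
    rw [hG, Matrix.toBilin'_apply'] at e
    rw [← e, ← Matrix.mulVec_mulVec, dotProduct_mulVec, Matrix.vecMul_transpose]
    congr 1
    exact LinearMap.toMatrix'_mulVec _ _
  have hW : W.det = Algebra.norm F (w : K) := by rw [LinearMap.det_toMatrix', hMdet]
  have hNg : ¬ IsSquare (Algebra.norm F (g : K)) := by
    rintro ⟨t, ht⟩
    have ht0 : t ≠ 0 := fun e => g.ne_zero (Algebra.norm_eq_zero_iff.1 (by rw [ht, e, mul_zero]))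
    have e : (g : K) ^ ((q ^ (2 * d) - 1) / (q - 1) * ((q - 1) / 2)) = 1 := by
      rw [pow_mul, ← hnorm, ← map_pow, ht, ← sq, ← pow_mul, Nat.mul_div_cancel' h2q, hq,
        FiniteField.pow_card_sub_one_eq_one t ht0, map_one]
    rw [← Nat.mul_div_assoc _ h2q, Nat.div_mul_cancel hdiv, ← Units.val_pow_eq_pow_val,
      Units.val_eq_one] at e
    have hpos : 3 ≤ q ^ (2 * d) := by rw [mul_comm 2 d, pow_mul, ← hqd]; nlinarith
    have h4 := Nat.le_of_dvd (by omega) (orderOf_dvd_of_pow_eq_one e)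
    rw [hgo] at h4
    omega
  have hNw : chi (Algebra.norm F (w : K)) = -chi ((-1 : F) ^ d) := by
    have hN0 : Algebra.norm F (g : K) ≠ 0 := fun e => g.ne_zero (Algebra.norm_eq_zero_iff.1 e)
    have hpow : ∀ m : ℕ, chi (Algebra.norm F (g : K) ^ m) = (-1) ^ m := fun m => by
      induction m with
      | zero => rw [pow_zero, pow_zero, chi_one]
      | succ m ih => rw [pow_succ, chi_mul (pow_ne_zero _ hN0) hN0, ih,
          chi_eq_neg_one_iff.2 hNg, pow_succ]
    rw [hwdef, Units.val_pow_eq_pow_val, map_pow, hpow, chi_unit_pow]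
    have hm1 : chi (-1 : F) = (-1) ^ ((q - 1) / 2) := by
      rcases (show q % 4 = 1 ∨ q % 4 = 3 by omega) with e | e
      · rw [chi_eq_one_iff.2 (FiniteField.isSquare_neg_one_iff.2 (by rw [← hq]; omega)),
          (Nat.even_iff.2 (show (q - 1) / 2 % 2 = 0 by omega)).neg_one_pow]
      · rw [chi_eq_neg_one_iff.2 fun hs => FiniteField.isSquare_neg_one_iff.1 hs (by rw [← hq]; exact e),
          (Nat.odd_iff.2 (show (q - 1) / 2 % 2 = 1 by omega)).neg_one_pow]
    rw [hm1, ← pow_mul, ← mul_neg_one ((-1 : ℤˣ) ^ _), ← pow_succ, Int.units_pow_eq_pow_mod_two]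
    conv_rhs => rw [Int.units_pow_eq_pow_mod_two]
    congr 1
    have h4 : qd % 4 = if (q - 1) / 2 * d % 2 = 0 then 1 else 3 := by
      rw [hqd, Nat.pow_mod]
      rcases (show q % 4 = 1 ∨ q % 4 = 3 by omega) with e | e
      · rw [e, one_pow, if_pos (by simp [Nat.mul_mod, show (q - 1) / 2 % 2 = 0 by omega]),
          Nat.one_mod]
      · have he : (q - 1) / 2 * d % 2 = d % 2 := by
          rw [Nat.mul_mod, show (q - 1) / 2 % 2 = 1 by omega, one_mul, Nat.mod_mod]
        rw [e, he]
        obtain ⟨m, hm⟩ : ∃ m, d = 2 * m + d % 2 := ⟨d / 2, by omega⟩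
        rcases (show d % 2 = 0 ∨ d % 2 = 1 by omega) with e' | e' <;>
          rw [e'] at hm ⊢ <;> rw [hm, pow_add, pow_mul, Nat.mul_mod, Nat.pow_mod] <;> norm_num
    split_ifs at h4 <;> omega
  refine ⟨Q, a, hnd, ?_, ?_, ?_⟩
  · have hdG : G.det ≠ 0 := disc_ne hnd
    have hW0 : W.det ≠ 0 := by
      rw [hW]; exact fun e => w.ne_zero (Algebra.norm_eq_zero_iff.1 e)
    set J : Matrix (Fin d ⊕ Fin d) (Fin d ⊕ Fin d) F := Matrix.fromBlocks 0 1 (-1) 0 with hJ
    let σe : Fin (2 * d) ≃ Fin d ⊕ Fin d := (finCongr (two_mul d)).trans finSumFinEquiv.symm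
    have hJd : J.det = 1 := by
      rw [hJ, show Matrix.fromBlocks (0 : Matrix (Fin d) (Fin d) F) 1 (-1) 0 =
          Matrix.fromBlocks 0 1 1 0 * Matrix.fromBlocks (-1) 0 0 1 by
          simp [Matrix.fromBlocks_multiply],
        Matrix.det_mul, Disc.det_swap_blocks, Matrix.det_fromBlocks_zero₂₁, Matrix.det_neg]
      simp [← mul_pow]
    have hJa : ∀ v, dotProduct v ((J.submatrix σe σe).mulVec v) = 0 := fun v => by
      refine AutPOmega.SSFusion.dot_alt_of_skew h2 ?_ v
      have hJt : J.transpose = -J := by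
        simp [hJ, Matrix.fromBlocks_transpose, Matrix.fromBlocks_neg]
      rw [Matrix.transpose_submatrix, hJt]
      rfl
    obtain ⟨t, ht0, ht⟩ := AutPOmega.SSFusion.alt_det_class (M := d) rfl hskew hJa
      (by rw [Matrix.det_mul, Matrix.det_transpose]; exact mul_ne_zero hW0 hdG)
      (by rw [Matrix.det_submatrix_equiv_self, hJd]; exact one_ne_zero)
    rw [Matrix.det_submatrix_equiv_self, hJd, mul_one, Matrix.det_mul, Matrix.det_transpose,
      hW] at ht
    have h3 : chi (Algebra.norm F (w : K)) * dchi Q = 1 := by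
      rw [dchi, ← chi_mul (fun e => hW0 (hW.trans e)) hdG, ht, chi_eq_one_iff]
      exact ⟨t, sq t⟩
    rw [← hNw]
    calc dchi Q = chi (Algebra.norm F (w : K)) * (chi (Algebra.norm F (w : K)) * dchi Q) := by
          rw [← mul_assoc, Int.units_mul_self, one_mul]
      _ = _ := by rw [h3, mul_one]
  · have h1 := det_eq_par hnd (Or.inl (card_ne_two h2)) a
    have h2' : LinearMap.det (M z) = ((a : GL (Fin (2 * d)) F) : Matrix (Fin (2 * d)) (Fin (2 * d)) F).det := by
      rw [← ha, show OddOrthSpectrum.actHom Q a = Matrix.toLin' ((a : GL (Fin (2 * d)) F) : Matrix (Fin (2 * d)) (Fin (2 * d)) F)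
        from LinearMap.ext fun x => by rw [Matrix.toLin'_apply]; exact act_apply a x,
        LinearMap.det_toLin']
    rw [← h2', hMdet, hzN] at h1
    rcases Int.units_eq_one_or (par a) with e | e
    · exact e
    · rw [e] at h1
      simp at h1
      exact absurd h1 (fun h => h2 (by linear_combination h))
  · rw [← orderOf_act, ha, ← hzo, ← orderOf_units]
    let φ : K →* Module.End F (Fin (2 * d) → F) :=
      { toFun := M
        map_one' := LinearMap.ext fun x => E.injective (by rw [hM, one_mul]; rfl)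
        map_mul' := fun u v => LinearMap.ext fun x => E.injective (by
          rw [Module.End.mul_apply, hM, hM, hM, mul_assoc]) }
    refine orderOf_injective φ (fun u v h => ?_) (z : K)
    have h' := congrArg E (LinearMap.congr_fun h (E.symm 1))
    change E (M u _) = E (M v _) at h'
    rwa [hM, hM, E.apply_symm_apply, mul_one, mul_one] at h'

end Cfsg.Agent.Classical.SpectrumNine
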