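import Cfsg.Agent.Lib.Classical.SpectrumNine.Bound
import Cfsg.Agent.Lib.Classical.SpectrumNine.Tori

/-!
# Elements of the split extension with prescribed orders
-/

set_option autoImplicit false
set_option linter.unusedSectionVars false

namespace Cfsg.Agent.Classical.SpectrumNine

open Module Matrix Cfsg.Agent.Forms Cfsg.Agent.Forms.QuadStd Cfsg.Agent.Forms.Reflections
open Cfsg.Agent.Classical Cfsg.Agent.Classical.OmegaCrit Cfsg.Agent.Classical.OmegaSum
open Cfsg.Agent.Classical.OddOrthSpectrum (actHom)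
open Cfsg.Agent.AutPOmega.SSFusion (xfer act_xfer theta_xfer)

variable {F : Type*} [Field F] [Fintype F]
variable {ι κ : Type} [Fintype ι] [DecidableEq ι] [Fintype κ] [DecidableEq κ]

/-- Minus the identity. -/
theorem exists_negOne {Q : QuadraticForm F (ι → F)} (hQ : (QuadraticMap.polarBilin Q).Nondegenerate)
    (h2 : (2 : F) ≠ 0) (hev : Even (Fintype.card ι)) :
    ∃ z : Cfsg.isometryGroup F ⇑Q, (∀ x, act z x = -x) ∧
      theta hQ (Or.inl (card_ne_two h2)) z = (1, dchi Q) := by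
  classical
  obtain ⟨z, hz⟩ := exists_iso hQ (-1) fun x => by
    rw [LinearMap.neg_apply, Module.End.one_apply, QuadraticMap.map_neg]
  have hzx : ∀ x, act z x = -x := fun x => LinearMap.congr_fun hz x
  refine ⟨z, hzx, ?_⟩
  rcases Nat.eq_zero_or_pos (Fintype.card ι) with h0 | hpos
  · have : IsEmpty ι := Fintype.card_eq_zero_iff.1 h0
    have : z = 1 := iso_ext fun x => funext fun i => isEmptyElim i
    rw [this, map_one, dchi, Matrix.det_isEmpty, chi_one]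
    rfl
  obtain ⟨n, hn⟩ : ∃ n, Fintype.card ι = n + 1 := ⟨Fintype.card ι - 1, by omega⟩
  obtain ⟨α, hα0, hα⟩ := OmegaCrit.exists_nonsquare (F := F) h2
  obtain ⟨v, -, hvo, hv1, hvl⟩ := Bases.exists_symm_normal h2 (polB Q) OddOrthSpectrum.polB_symm α
    (chi_eq_neg_one_iff.1 hα) (n := n) ⊤ (Bases.nondegOn_top hQ.1)
    (by rw [finrank_top, Module.finrank_pi, hn])
  have hne : ∀ i, polB Q (v i) (v i) ≠ 0 := fun i => by
    by_cases hi : i = Fin.last n
    · subst hi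
      rcases hvl with e | e <;> rw [e]
      exacts [one_ne_zero, hα0]
    · rw [hv1 i hi]; exact one_ne_zero
  obtain ⟨B, hBv, hBd⟩ := Disc.exists_diag_basis (polB Q) v (by rw [Module.finrank_pi, hn]) hvo hv1
    (hne _)
  have hQne : ∀ i, Q (v i) ≠ 0 := fun i h => hne i (by rw [OddOrthSpectrum.polB_self, h, mul_zero])
  rw [OddOrthSpectrum.theta_neg hQ (Or.inl (card_ne_two h2)) z v hvo hQne ⊥
    (fun x hx i => by rw [(Submodule.mem_bot F).1 hx, QuadraticMap.polar_zero_right])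
    (by rw [sup_bot_eq, ← hBv, B.span_eq]) (fun i => hzx _)
    (fun x hx => by rw [(Submodule.mem_bot F).1 hx, map_zero])]
  refine Prod.ext ?_ ?_
  · exact (Nat.even_iff.2 (by rw [← hn]; exact Nat.even_iff.1 hev)).neg_one_pow
  · show chi (∏ i, Q (v i)) = dchi Q
    obtain ⟨t, ht0, ht⟩ := Disc.det_gram_change (polB Q) (Pi.basisFun F ι) B
    have hdiag : (Disc.gram (polB Q) B).det = ∏ i, polB Q (v i) (v i) := by
      have : Disc.gram (polB Q) B = Matrix.diagonal fun i => polB Q (v i) (v i) := by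
        ext i j
        rcases eq_or_ne i j with rfl | hij
        · simp [Disc.gram, hBv]
        · simp [Disc.gram, hBv, hij, hvo i j hij]
      rw [this, Matrix.det_diagonal]
    rw [hdiag] at ht
    simp only [OddOrthSpectrum.polB_self, Finset.prod_mul_distrib, Finset.prod_const,
      Finset.card_univ, Fintype.card_fin] at ht
    have hp : (∏ i, Q (v i)) ≠ 0 := Finset.prod_ne_zero_iff.2 fun i _ => hQne i
    have h2n : IsSquare ((2 : F) ^ (n + 1)) := by
      obtain ⟨r, hr⟩ := hev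
      exact ⟨2 ^ r, by rw [← pow_add, ← hr, hn]⟩
    have h3 := congrArg chi ht
    rw [chi_mul (pow_ne_zero _ h2) hp, chi_eq_one_iff.2 h2n, one_mul,
      chi_mul (mul_ne_zero ht0 ht0) (disc_ne hQ), chi_eq_one_iff.2 ⟨t, rfl⟩, one_mul] at h3
    exact h3

theorem theta_right {Q : QuadraticForm F (ι → F)} {R : QuadraticForm F (κ → F)}
    (hQ : (QuadraticMap.polarBilin Q).Nondegenerate) (hR : (QuadraticMap.polarBilin R).Nondegenerate)
    (h2 : (2 : F) ≠ 0) (g : Cfsg.isometryGroup F ⇑R) :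
    theta (sumQ_nondeg hQ hR) (Or.inl (card_ne_two h2)) (blockIso Q R (1, g)) =
      theta hR (Or.inl (card_ne_two h2)) g := by
  refine theta_map hR (Or.inl (card_ne_two h2)) (sumQ_nondeg hQ hR) _
    ((blockIso Q R).comp (MonoidHom.inr _ _)) (fun v => Sum.elim 0 v)
    (fun v => by simp [sumQ_eq]) (fun v _ => ?_) g
  refine iso_ext fun w => ?_
  rw [← act_apply, ← act_apply, act_reflect]
  show act (blockIso Q R (1, reflect R v)) w = _
  rw [act_block, act_one, act_reflect, sumQ_polar, sumQ_eq]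
  simp only [Sum.elim_comp_inl, Sum.elim_comp_inr, QuadraticMap.map_zero, zero_add,
    QuadraticMap.polar_zero_left]
  funext z
  rcases z with z | z <;> simp

theorem blockIso_injective (Q : QuadraticForm F (ι → F)) (R : QuadraticForm F (κ → F)) :
    Function.Injective (blockIso Q R) := fun g g' h => Prod.ext
  (iso_ext fun x => by
    have h1 := congrArg (fun k => act k (Sum.elim x 0) ∘ Sum.inl) h
    simp only [act_block, Sum.elim_comp_inl] at h1
    rw [← act_apply, ← act_apply]; exact h1)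
  (iso_ext fun x => by
    have h1 := congrArg (fun k => act k (Sum.elim 0 x) ∘ Sum.inr) h
    simp only [act_block, Sum.elim_comp_inr] at h1
    rw [← act_apply, ← act_apply]; exact h1)

/-- An element with a fixed summand. -/
theorem assemble {Q : QuadraticForm F (ι → F)} (hQ : (QuadraticMap.polarBilin Q).Nondegenerate)
    (h2 : (2 : F) ≠ 0) {α β : Type} [Fintype α] [DecidableEq α] [Fintype β] [DecidableEq β]
    {Q₁ : QuadraticForm F (α → F)} {Q₂ : QuadraticForm F (β → F)} {Q₃ : QuadraticForm F (κ → F)}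
    (h₁ : (QuadraticMap.polarBilin Q₁).Nondegenerate) (h₂ : (QuadraticMap.polarBilin Q₂).Nondegenerate)
    (h₃ : (QuadraticMap.polarBilin Q₃).Nondegenerate)
    (hc : Fintype.card α + Fintype.card β + Fintype.card κ = Fintype.card ι)
    (hd : dchi Q₁ * dchi Q₂ * dchi Q₃ = dchi Q) (a : Cfsg.isometryGroup F ⇑Q₁)
    (b : Cfsg.isometryGroup F ⇑Q₂)
    (hab : theta h₁ (Or.inl (card_ne_two h2)) a * theta h₂ (Or.inl (card_ne_two h2)) b = 1) :
    ∃ h : Cfsg.Omega F ⇑Q, orderOf h = Nat.lcm (orderOf a) (orderOf b) ∧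
      ∃ C : Submodule F (ι → F), Bases.NondegOn (polB Q) C ∧ finrank F C = Fintype.card κ ∧
        ∀ x ∈ C, act h.1 x = x := by
  classical
  have h₁₂ := sumQ_nondeg h₁ h₂
  have hs := sumQ_nondeg h₁₂ h₃
  obtain ⟨f, hf⟩ := exists_isometry_dchi h2 hs hQ
    (by rw [Fintype.card_sum, Fintype.card_sum]; exact hc)
    (by rw [dchi_sum h₁₂ h₃, dchi_sum h₁ h₂, hd])
  set g₀ := blockIso Q₁ Q₂ (a, b) with hg₀
  set g₁ := leftHom (sumQ Q₁ Q₂) Q₃ g₀ with hg₁
  have hth : theta h₁₂ (Or.inl (card_ne_two h2)) g₀ = 1 := by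
    have e : (a, b) = ((a, 1) * (1, b) : ↥(Cfsg.isometryGroup F ⇑Q₁) × ↥(Cfsg.isometryGroup F ⇑Q₂)) := by
      simp
    rw [hg₀, e, map_mul, map_mul, theta_right h₁ h₂ h2,
      show blockIso Q₁ Q₂ (a, 1) = leftHom Q₁ Q₂ a from rfl,
      theta_left h₁ h₂ (Or.inl (card_ne_two h2)), hab]
  have hmem : xfer f hf g₁ ∈ Cfsg.Omega F ⇑Q :=
    (xfer_mem_omega hs hQ h2 f hf g₁).2 ((leftHom_mem_omega h₁₂ h₃ h2 g₀).2
      ((mem_omega_iff h₁₂ (Or.inl (card_ne_two h2)) g₀).2 hth))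
  refine ⟨⟨_, hmem⟩, ?_, ?_⟩
  · rw [Subgroup.orderOf_mk, orderOf_injective _ (xfer_injective f hf) g₁, hg₁,
      orderOf_injective _ (leftHom_injective _ Q₃) g₀, hg₀,
      orderOf_injective _ (blockIso_injective Q₁ Q₂) (a, b), Prod.orderOf_mk]
  let L : (κ → F) →ₗ[F] (ι → F) := f.toLinearMap ∘ₗ
    (LinearEquiv.sumArrowLequivProdArrow (α ⊕ β) κ F F).symm.toLinearMap ∘ₗ LinearMap.inr F _ _
  have hL : ∀ x, L x = f (Sum.elim 0 x) := fun x => rfl
  have hLi : Function.Injective L := fun x y e => by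
    rw [hL, hL] at e
    exact funext fun i => congrFun (f.injective e) (Sum.inr i)
  have hLp : ∀ x y, polB Q (L x) (L y) = polB Q₃ x y := fun x y => by
    simp only [hL, polB_apply, QuadraticMap.polar, ← map_add, hf]
    rw [show Sum.elim (0 : α ⊕ β → F) x + Sum.elim (0 : α ⊕ β → F) y =
      (Sum.elim 0 (x + y) : (α ⊕ β) ⊕ κ → F) by funext i; rcases i with i | i <;> simp]
    simp [sumQ_eq]
  refine ⟨LinearMap.range L, ?_, ?_, ?_⟩
  · rintro _ ⟨x, rfl⟩ hx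
    have : x = 0 := h₃.1 x fun y => by
      show polB Q₃ x y = 0
      rw [← hLp]; exact hx _ ⟨y, rfl⟩
    rw [this, map_zero]
  · rw [LinearMap.finrank_range_of_inj hLi, Module.finrank_pi]
  · rintro _ ⟨x, rfl⟩
    show act (xfer f hf g₁) (L x) = L x
    rw [hL, act_xfer, hg₁, act_left, Sum.elim_comp_inl, Sum.elim_comp_inr, map_zero]

/-- A compensating element. -/
theorem pair_omega {Q₁ : QuadraticForm F (ι → F)} {Q₂ : QuadraticForm F (κ → F)}
    (h₁ : (QuadraticMap.polarBilin Q₁).Nondegenerate) (h₂ : (QuadraticMap.polarBilin Q₂).Nondegenerate)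
    (h2 : (2 : F) ≠ 0) (hev : Even (Fintype.card κ)) (hd : dchi Q₂ = -1)
    (a : Cfsg.isometryGroup F ⇑Q₁) (ha : par a = 1) (b : Cfsg.isometryGroup F ⇑Q₂) {n : ℕ}
    (hn : orderOf b = n) (ho : Odd n) :
    ∃ b' : Cfsg.isometryGroup F ⇑Q₂, n ∣ orderOf b' ∧
      theta h₁ (Or.inl (card_ne_two h2)) a * theta h₂ (Or.inl (card_ne_two h2)) b' = 1 := by
  have hb : theta h₂ (Or.inl (card_ne_two h2)) b = 1 :=
    (mem_omega_iff h₂ _ b).1 (mem_omega_of_odd h₂ h2 ho (hn ▸ pow_orderOf_eq_one b))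
  have ha2 : theta h₁ (Or.inl (card_ne_two h2)) a =
      (1, (theta h₁ (Or.inl (card_ne_two h2)) a).2) := Prod.ext ((theta_fst h₁ _ a).trans ha) rfl
  rcases Int.units_eq_one_or (theta h₁ (Or.inl (card_ne_two h2)) a).2 with e | e
  · refine ⟨b, hn.symm.dvd, ?_⟩
    rw [ha2, e, hb]; rfl
  obtain ⟨z, hz, hzt⟩ := exists_negOne h₂ h2 hev
  have hcomm : Commute b z := iso_ext fun x => by
    rw [← act_apply, ← act_apply, act_mul, act_mul, hz, hz, map_neg]
  have hz2 : z * z = 1 := iso_ext fun x => by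
    rw [← act_apply, ← act_apply, act_mul, hz, hz, neg_neg, act_one]
  refine ⟨b * z, ?_, ?_⟩
  · have h1 := pow_orderOf_eq_one (b * z)
    have h3 : b ^ (2 * orderOf (b * z)) = 1 := by
      have h4 : (b * z) ^ (2 * orderOf (b * z)) = 1 := by rw [mul_comm 2, pow_mul, h1, one_pow]
      rw [hcomm.mul_pow, pow_mul z, sq, hz2, one_pow, mul_one] at h4
      exact h4
    rw [← hn] at ho ⊢
    exact (Nat.coprime_two_right.2 ho).dvd_of_dvd_mul_left (orderOf_dvd_of_pow_eq_one h3)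
  · rw [map_mul, hb, one_mul, hzt, ha2, e, hd]
    rfl

theorem exists_odd_elt {G : Type*} [Group G] (g : G) {n : ℕ} (hg : orderOf g = 2 * n) (hn : 0 < n) :
    orderOf (g ^ 2) = n := by
  rw [orderOf_pow_of_dvd two_ne_zero (hg ▸ dvd_mul_right 2 n), hg, Nat.mul_div_cancel_left n two_pos]

/-- The diagonal form. -/
noncomputable def diagQ (w : κ → F) : QuadraticForm F (κ → F) :=
  QuadraticMap.weightedSumSquares F w

theorem diagQ_polar (w : κ → F) (x y : κ → F) :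
    QuadraticMap.polar (diagQ w) x y = ∑ i, 2 * w i * (x i * y i) := by
  simp only [QuadraticMap.polar, diagQ, QuadraticMap.weightedSumSquares_apply, Pi.add_apply,
    smul_eq_mul, ← Finset.sum_sub_distrib]
  exact Finset.sum_congr rfl fun i _ => by ring

theorem diagQ_nondeg (h2 : (2 : F) ≠ 0) {w : κ → F} (hw : ∀ i, w i ≠ 0) :
    (QuadraticMap.polarBilin (diagQ w)).Nondegenerate := by
  have h : ∀ x, (∀ y, QuadraticMap.polar (diagQ w) x y = 0) → x = 0 := fun x hx => by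
    funext i
    have h1 := hx (Pi.single i 1)
    rw [diagQ_polar, Finset.sum_eq_single i (fun j _ hj => by simp [hj]) (by simp)] at h1
    simpa [h2, hw i] using h1
  exact ⟨fun x hx => h x hx, fun x hx => h x fun y => (QuadraticMap.polar_comm _ x y).trans (hx y)⟩

theorem dchi_diag (w : κ → F) : dchi (diagQ w) = chi (∏ i, 2 * w i) := by
  rw [dchi, ← Matrix.det_diagonal]
  congr 2
  ext i j
  rcases eq_or_ne i j with rfl | hij
  · rw [Matrix.diagonal_apply_eq]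
    simp only [Disc.gram, Matrix.of_apply, polB_apply, diagQ_polar, Pi.basisFun_apply]
    rw [Finset.sum_eq_single i (fun j _ hj => by simp [hj]) (by simp)]
    simp
  · rw [Matrix.diagonal_apply_ne _ hij]
    simp only [Disc.gram, Matrix.of_apply, polB_apply, diagQ_polar, Pi.basisFun_apply]
    exact Finset.sum_eq_zero fun l _ => by
      rcases eq_or_ne l i with rfl | hl <;> simp [*]

/-- Forms of both classes in every positive even dimension. -/
theorem exists_form (h2 : (2 : F) ≠ 0) (m : ℕ) (hm : 1 ≤ m) (e : ℤˣ) :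
    ∃ Q : QuadraticForm F (Fin (2 * m) → F), (QuadraticMap.polarBilin Q).Nondegenerate ∧
      dchi Q = e := by
  obtain ⟨α, hα0, hα⟩ := OmegaCrit.exists_nonsquare (F := F) h2
  obtain ⟨δ, hδ0, hδ⟩ : ∃ δ : F, δ ≠ 0 ∧ chi δ = e := by
    rcases Int.units_eq_one_or e with rfl | rfl
    exacts [⟨1, one_ne_zero, chi_one⟩, ⟨α, hα0, hα⟩]
  set w : Fin (2 * m) → F := Function.update (fun _ => 1) ⟨0, by omega⟩ δ with hw
  have hwne : ∀ i, w i ≠ 0 := fun i => by
    rw [hw, Function.update_apply]; split_ifs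
    exacts [hδ0, one_ne_zero]
  refine ⟨diagQ w, diagQ_nondeg h2 hwne, ?_⟩
  rw [dchi_diag, Finset.prod_mul_distrib, Finset.prod_const, Finset.card_univ, Fintype.card_fin,
    chi_mul (pow_ne_zero _ h2) (Finset.prod_ne_zero_iff.2 fun i _ => hwne i),
    chi_eq_one_iff.2 ⟨2 ^ m, by rw [← pow_add, two_mul]⟩, one_mul, hw,
    Finset.prod_update_of_mem (Finset.mem_univ _), Finset.prod_const_one, mul_one, hδ]

/-- All the possible orders occur. -/
theorem realise {p : ℕ} [Fact p.Prime] [CharP F p] {Q : QuadraticForm F (ι → F)}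
    (hQ : (QuadraticMap.polarBilin Q).Nondegenerate) (h2 : (2 : F) ≠ 0)
    (hcard : Fintype.card ι = 8) (hd : dchi Q = -1) {n : ℕ}
    (hn : Target (Fintype.card F) p n) : ∃ x : HGroup ⇑Q, n ∣ orderOf x := by
  classical
  set q := Fintype.card F with hq
  have hp : p.Prime := Fact.out
  have hq1 : 1 < q := Fintype.one_lt_card
  have hqodd : q % 2 = 1 := Nat.not_even_iff.1 fun he => h2 (by
    have : CharP F 2 := ringChar.of_eq ((FiniteField.even_card_iff_char_two).2 (Nat.even_iff.1 he))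
    exact CharTwo.two_eq_zero)
  have hm1 : q % 4 = 1 → chi (-1 : F) = 1 := fun e =>
    chi_eq_one_iff.2 (FiniteField.isSquare_neg_one_iff.2 (by rw [← hq]; omega))
  have hm3 : q % 4 = 3 → chi (-1 : F) = -1 := fun e =>
    chi_eq_neg_one_iff.2 fun hs => FiniteField.isSquare_neg_one_iff.1 hs (by rw [← hq]; exact e)
  obtain ⟨Hp1, hyp1, hH1, hHd1, hHp1, hHo1⟩ := exists_hyp (F := F) h2 1 le_rfl
  obtain ⟨Hp2, hyp2, hH2, hHd2, hHp2, hHo2⟩ := exists_hyp (F := F) h2 2 (by omega)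
  obtain ⟨Hp3, hyp3, hH3, hHd3, hHp3, hHo3⟩ := exists_hyp (F := F) h2 3 (by omega)
  obtain ⟨El1, ell1, hE1, hEd1, hEp1, hEo1⟩ := exists_ell (F := F) h2 1 le_rfl
  obtain ⟨El2, ell2, hE2, hEd2, hEp2, hEo2⟩ := exists_ell (F := F) h2 2 (by omega)
  obtain ⟨El3, ell3, hE3, hEd3, hEp3, hEo3⟩ := exists_ell (F := F) h2 3 (by omega)
  rw [pow_one] at hHd1 hEd1 hHo1 hEo1
  rw [neg_one_sq, chi_one] at hHd2 hEd2
  rw [chi_unit_pow, pow_succ, Int.units_sq, one_mul] at hHd3 hEd3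
  rw [← hq] at hHo1 hHo2 hHo3 hEo1 hEo2 hEo3
  obtain ⟨Pm, hPm, hPmd⟩ := exists_form (F := F) h2 1 le_rfl (-1)
  obtain ⟨Pp, hPp, hPpd⟩ := exists_form (F := F) h2 1 le_rfl 1
  -- two summands
  have two : ∀ {α β : Type} [Fintype α] [DecidableEq α] [Fintype β] [DecidableEq β]
      {Q₁ : QuadraticForm F (α → F)} {Q₂ : QuadraticForm F (β → F)}
      (h₁ : (QuadraticMap.polarBilin Q₁).Nondegenerate) (h₂ : (QuadraticMap.polarBilin Q₂).Nondegenerate)
      (_ : Fintype.card α + Fintype.card β = 8) (_ : Even (Fintype.card β))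
      (_ : dchi Q₂ = -1) (_ : dchi Q₁ = 1) (a : Cfsg.isometryGroup F ⇑Q₁) (_ : par a = 1)
      (b : Cfsg.isometryGroup F ⇑Q₂) (_ : Odd (orderOf b)),
      ∃ x : HGroup ⇑Q, Nat.lcm (orderOf a) (orderOf b) ∣ orderOf x := by
    intro α β _ _ _ _ Q₁ Q₂ h₁ h₂ hc hev hd2 hd1 a ha b hb
    obtain ⟨b', hb', hth⟩ := pair_omega h₁ h₂ h2 hev hd2 a ha b rfl hb
    have h₀ : (QuadraticMap.polarBilin (diagQ (fun _ : Fin 0 => (1 : F)))).Nondegenerate :=
      diagQ_nondeg h2 fun i => one_ne_zero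
    obtain ⟨h, hh, -⟩ := assemble hQ h2 h₁ h₂ h₀ (by rw [hcard, Fintype.card_fin]; omega)
      (by rw [hd1, hd2, hd, dchi_diag, Finset.univ_eq_empty, Finset.prod_empty, chi_one, one_mul,
        mul_one]) a b' hth
    obtain ⟨x, hx⟩ := exists_inl h
    exact ⟨x, hx ▸ hh ▸ Nat.lcm_dvd (Nat.dvd_lcm_left _ _) (hb'.trans (Nat.dvd_lcm_right _ _))⟩
  -- three summands
  have three : ∀ {α β : Type} [Fintype α] [DecidableEq α] [Fintype β] [DecidableEq β]
      {Q₁ : QuadraticForm F (α → F)} {Q₂ : QuadraticForm F (β → F)}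
      (h₁ : (QuadraticMap.polarBilin Q₁).Nondegenerate) (h₂ : (QuadraticMap.polarBilin Q₂).Nondegenerate)
      (m e : ℕ) (_ : 1 ≤ m) (_ : Fintype.card α + Fintype.card β + 2 * m = 8)
      (_ : Even (Fintype.card β)) (_ : dchi Q₂ = -1) (a : Cfsg.isometryGroup F ⇑Q₁) (_ : par a = 1)
      (b : Cfsg.isometryGroup F ⇑Q₂) (_ : Odd (orderOf b)) (_ : p ^ (e - 1) < 2 * m + 1),
      ∃ x : HGroup ⇑Q, Nat.lcm (Nat.lcm (orderOf a) (orderOf b)) (p ^ e) ∣ orderOf x := by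
    intro α β _ _ _ _ Q₁ Q₂ h₁ h₂ m e hm hc hev hd2 a ha b hb he
    obtain ⟨b', hb', hth⟩ := pair_omega h₁ h₂ h2 hev hd2 a ha b rfl hb
    obtain ⟨Q₃, h₃, hd3⟩ := exists_form (F := F) h2 m hm (dchi Q₁ * dchi Q₂ * dchi Q)
    obtain ⟨h, hh, C, hC, hCd, hCf⟩ := assemble hQ h2 h₁ h₂ h₃
      (by rw [hcard, Fintype.card_fin]; omega)
      (by rw [hd3, ← mul_assoc (dchi Q₁ * dchi Q₂), Int.units_mul_self, one_mul]) a b' hth
    rw [Fintype.card_fin] at hCd
    obtain ⟨x, hx⟩ := coreA (p := p) hQ h2 h hC (hCd ▸ even_two_mul m) (by omega) hCf (a := e)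
      (by rw [hCd]; exact he)
    refine ⟨x, (Nat.lcm_dvd ?_ ?_).trans hx⟩
    · exact (hh ▸ Nat.lcm_dvd (Nat.dvd_lcm_left _ _) (hb'.trans (Nat.dvd_lcm_right _ _)) :
        Nat.lcm (orderOf a) (orderOf b) ∣ orderOf h).trans (Nat.dvd_lcm_left _ _)
    · exact Nat.dvd_lcm_right _ _
  have hone : ∀ {β : Type} [Fintype β] [DecidableEq β] (R : QuadraticForm F (β → F)),
      orderOf (1 : Cfsg.isometryGroup F ⇑R) = 1 := fun R => orderOf_one
  have e2 : q ^ 2 % 4 = 1 := by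
    rcases (show q % 4 = 1 ∨ q % 4 = 3 by omega) with e | e <;> rw [Nat.pow_mod, e]
  have e3 : q ^ 3 % 4 = q % 4 := by
    rcases (show q % 4 = 1 ∨ q % 4 = 3 by omega) with e | e <;> rw [Nat.pow_mod, e]
  have e3' : 1 ≤ q ^ 3 := Nat.one_le_pow _ _ (by omega)
  have e2' : 1 ≤ q ^ 2 := Nat.one_le_pow _ _ (by omega)
  -- coprimality
  have hcop : ∀ x y : ℕ, y % 2 = 1 → (∀ c, c ∣ x → c ∣ y → c ∣ 2) → Nat.lcm x y = x * y := by
    intro x y hy hc
    refine Nat.Coprime.lcm_eq_mul ((Nat.dvd_prime Nat.prime_two).1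
      (hc _ (Nat.gcd_dvd_left x y) (Nat.gcd_dvd_right x y)) |>.resolve_right fun e => ?_)
    have : 2 ∣ y := e ▸ Nat.gcd_dvd_right x y
    omega
  have hsub : ∀ u w : ℕ, 1 ≤ u → ∀ c, c ∣ u - 1 → c ∣ w → u + 1 = w → c ∣ 2 := fun u w hu c h1 h2' e => by
    have := Nat.dvd_sub h2' h1
    rwa [show w - (u - 1) = 2 by omega] at this
  rcases hn with hn | hn | hn | hn | hn | hn | ⟨hp', hn⟩ | ⟨hp', hn⟩
  · -- (q^4-1)/2
    obtain ⟨r, hr⟩ : 2 ∣ q ^ 2 + 1 := by omega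
    obtain ⟨x, hx⟩ := two hH2 hE2 (by simp) (by simp [Nat.even_iff]) hEd2 hHd2 hyp2 hHp2 (ell2 ^ 2)
      (by rw [exists_odd_elt ell2 (hEo2.trans hr) (by omega), Nat.odd_iff]; omega)
    rw [exists_odd_elt ell2 (hEo2.trans hr) (by omega), hHo2, hcop _ _ (by omega) (fun c h1 h2' =>
      hsub (q ^ 2) (q ^ 2 + 1) e2' c h1 (hr ▸ h2'.mul_left 2) rfl)] at hx
    refine ⟨x, hn.trans (dvd_trans (dvd_of_eq ?_) hx)⟩
    rw [show q ^ 4 - 1 = (q ^ 2) ^ 2 - 1 ^ 2 by rw [one_pow, ← pow_mul], Nat.sq_sub_sq, hr,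
      mul_assoc, Nat.mul_div_cancel_left _ two_pos, mul_comm]
  · -- (q^3+1)(q-1)/2
    rcases (show q % 4 = 1 ∨ q % 4 = 3 by omega) with h4 | h4
    · obtain ⟨r, hr⟩ : 2 ∣ q ^ 3 + 1 := by omega
      obtain ⟨x, hx⟩ := two hH1 hE3 (by simp) (by simp [Nat.even_iff]) (by rw [hEd3, hm1 h4])
        (by rw [hHd1, hm1 h4]) hyp1 hHp1 (ell3 ^ 2)
        (by rw [exists_odd_elt ell3 (hEo3.trans hr) (by omega), Nat.odd_iff]; omega)
      rw [exists_odd_elt ell3 (hEo3.trans hr) (by omega), hHo1, hcop _ _ (by omega) (fun c h1 h2' =>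
        hsub (q ^ 3) (q ^ 3 + 1) e3' c (h1.trans (Nat.sub_one_dvd_pow_sub_one q 3))
          (hr ▸ h2'.mul_left 2) rfl)] at hx
      refine ⟨x, hn.trans (dvd_trans (dvd_of_eq ?_) hx)⟩
      obtain ⟨l, hl⟩ : 2 ∣ q - 1 := by omega
      rw [hr, hl, Nat.mul_div_cancel_left l two_pos]; ring
    · obtain ⟨l, hl⟩ : 2 ∣ q - 1 := by omega
      obtain ⟨x, hx⟩ := two hE3 hH1 (by simp) (by simp [Nat.even_iff]) (by rw [hHd1, hm3 h4])
        (by rw [hEd3, hm3 h4, neg_neg]) ell3 hEp3 (hyp1 ^ 2)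
        (by rw [exists_odd_elt hyp1 (hHo1.trans hl) (by omega), Nat.odd_iff]; omega)
      rw [exists_odd_elt hyp1 (hHo1.trans hl) (by omega), hEo3, hcop _ _ (by omega) (fun c h1 h2' =>
        hsub (q ^ 3) (q ^ 3 + 1) e3' c
          (((hl ▸ h2'.mul_left 2 : c ∣ q - 1)).trans (Nat.sub_one_dvd_pow_sub_one q 3)) h1 rfl)] at hx
      refine ⟨x, hn.trans (dvd_trans (dvd_of_eq ?_) hx)⟩
      rw [hl, Nat.mul_div_cancel_left l two_pos]
  · -- (q^3-1)(q+1)/2
    have hq13 : q + 1 ∣ q ^ 3 + 1 := by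
      simpa using Odd.nat_add_dvd_pow_add_pow q 1 (n := 3) (by decide)
    rcases (show q % 4 = 1 ∨ q % 4 = 3 by omega) with h4 | h4
    · obtain ⟨l, hl⟩ : 2 ∣ q + 1 := by omega
      obtain ⟨x, hx⟩ := two hH3 hE1 (by simp) (by simp [Nat.even_iff]) (by rw [hEd1, hm1 h4])
        (by rw [hHd3, hm1 h4]) hyp3 hHp3 (ell1 ^ 2)
        (by rw [exists_odd_elt ell1 (hEo1.trans hl) (by omega), Nat.odd_iff]; omega)
      rw [exists_odd_elt ell1 (hEo1.trans hl) (by omega), hHo3, hcop _ _ (by omega) (fun c h1 h2' =>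
        hsub (q ^ 3) (q ^ 3 + 1) e3' c h1 ((hl ▸ h2'.mul_left 2 : c ∣ q + 1).trans hq13) rfl)] at hx
      refine ⟨x, hn.trans (dvd_trans (dvd_of_eq ?_) hx)⟩
      rw [hl, Nat.mul_div_cancel_left l two_pos]
    · obtain ⟨r, hr⟩ : 2 ∣ q ^ 3 - 1 := by omega
      obtain ⟨x, hx⟩ := two hE1 hH3 (by simp) (by simp [Nat.even_iff]) (by rw [hHd3, hm3 h4])
        (by rw [hEd1, hm3 h4, neg_neg]) ell1 hEp1 (hyp3 ^ 2)
        (by rw [exists_odd_elt hyp3 (hHo3.trans hr) (by omega), Nat.odd_iff]; omega)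
      rw [exists_odd_elt hyp3 (hHo3.trans hr) (by omega), hEo1, hcop _ _ (by omega) (fun c h1 h2' =>
        hsub (q ^ 3) (q ^ 3 + 1) e3' c (hr ▸ h2'.mul_left 2) (h1.trans hq13) rfl)] at hx
      refine ⟨x, hn.trans (dvd_trans (dvd_of_eq ?_) hx)⟩
      obtain ⟨l, hl⟩ : 2 ∣ q + 1 := by omega
      rw [hr, hl, Nat.mul_div_cancel_left l two_pos]; ring
  all_goals try (obtain ⟨r, hr⟩ : 2 ∣ q ^ 2 + 1 := by omega)
  · -- p(q^2+1)(q-1)/2
    obtain ⟨x, hx⟩ := three hH1 hE2 1 1 le_rfl (by simp) (by simp [Nat.even_iff]) hEd2 hyp1 hHp1 (ell2 ^ 2)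
      (by rw [exists_odd_elt ell2 (hEo2.trans hr) (by omega), Nat.odd_iff]; omega) (by norm_num)
    rw [exists_odd_elt ell2 (hEo2.trans hr) (by omega), hHo1, hcop _ _ (by omega) (fun c h1 h2' =>
      hsub (q ^ 2) (q ^ 2 + 1) e2' c (h1.trans (Nat.sub_one_dvd_pow_sub_one q 2))
        (hr ▸ h2'.mul_left 2) rfl)] at hx
    refine ⟨x, hn.trans (dvd_trans (dvd_of_eq ?_) hx)⟩
    have hcp : Nat.Coprime ((q - 1) * r) (p ^ 1) := by
      rw [pow_one]
      refine ((hp.coprime_iff_not_dvd).2 fun hd' => ?_).symm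
      have hpq : p ∣ q := by
        obtain ⟨n', -, hqn⟩ := FiniteField.card F p
        rw [hq, hqn]; exact dvd_pow_self p n'.pos.ne'
      have h3 : p ∣ q ^ 2 * q ^ 2 := (hpq.trans (dvd_pow_self q two_ne_zero)).mul_right _
      have h5 : p ∣ q ^ 2 * q ^ 2 - 1 := hd'.trans ((Nat.mul_dvd_mul (Nat.sub_one_dvd_pow_sub_one q 2)
        (hr ▸ dvd_mul_left r 2 : r ∣ q ^ 2 + 1)).trans (dvd_of_eq (by
          rw [show q ^ 2 * q ^ 2 - 1 = (q ^ 2) ^ 2 - 1 ^ 2 by rw [one_pow, sq (q ^ 2)], Nat.sq_sub_sq]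
          ring)))
      have := Nat.dvd_sub h3 h5
      rw [show q ^ 2 * q ^ 2 - (q ^ 2 * q ^ 2 - 1) = 1 by
        have : 1 ≤ q ^ 2 * q ^ 2 := Nat.one_le_iff_ne_zero.2 (mul_ne_zero (by omega) (by omega))
        omega] at this
      exact hp.one_lt.ne' (Nat.dvd_one.1 this)
    rw [hcp.lcm_eq_mul, hr, Nat.mul_div_cancel_left r two_pos]; ring
  · -- p(q^2+1)(q+1)/2
    obtain ⟨x, hx⟩ := three hE1 hE2 1 1 le_rfl (by simp) (by simp [Nat.even_iff]) hEd2 ell1 hEp1 (ell2 ^ 2)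
      (by rw [exists_odd_elt ell2 (hEo2.trans hr) (by omega), Nat.odd_iff]; omega) (by norm_num)
    have h12 : q + 1 ∣ q ^ 2 - 1 := ⟨q - 1, by
      rw [show q ^ 2 - 1 = q ^ 2 - 1 ^ 2 by rw [one_pow], Nat.sq_sub_sq]⟩
    rw [exists_odd_elt ell2 (hEo2.trans hr) (by omega), hEo1, hcop _ _ (by omega) (fun c h1 h2' =>
      hsub (q ^ 2) (q ^ 2 + 1) e2' c (h1.trans h12) (hr ▸ h2'.mul_left 2) rfl)] at hx
    refine ⟨x, hn.trans (dvd_trans (dvd_of_eq ?_) hx)⟩
    have hcp : Nat.Coprime ((q + 1) * r) (p ^ 1) := by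
      rw [pow_one]
      refine ((hp.coprime_iff_not_dvd).2 fun hd' => ?_).symm
      have hpq : p ∣ q := by
        obtain ⟨n', -, hqn⟩ := FiniteField.card F p
        rw [hq, hqn]; exact dvd_pow_self p n'.pos.ne'
      have h3 : p ∣ q ^ 2 * q ^ 2 := (hpq.trans (dvd_pow_self q two_ne_zero)).mul_right _
      have h5 : p ∣ q ^ 2 * q ^ 2 - 1 := hd'.trans ((Nat.mul_dvd_mul h12
        (hr ▸ dvd_mul_left r 2 : r ∣ q ^ 2 + 1)).trans (dvd_of_eq (by
          rw [show q ^ 2 * q ^ 2 - 1 = (q ^ 2) ^ 2 - 1 ^ 2 by rw [one_pow, sq (q ^ 2)], Nat.sq_sub_sq]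
          ring)))
      have := Nat.dvd_sub h3 h5
      rw [show q ^ 2 * q ^ 2 - (q ^ 2 * q ^ 2 - 1) = 1 by
        have : 1 ≤ q ^ 2 * q ^ 2 := Nat.one_le_iff_ne_zero.2 (mul_ne_zero (by omega) (by omega))
        omega] at this
      exact hp.one_lt.ne' (Nat.dvd_one.1 this)
    rw [hcp.lcm_eq_mul, hr, Nat.mul_div_cancel_left r two_pos]; ring
  all_goals
    have hpq : p ∣ q := by
      obtain ⟨n', -, hqn⟩ := FiniteField.card F p
      rw [hq, hqn]; exact dvd_pow_self p n'.pos.ne'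
    have hcp : ∀ u e : ℕ, (u + 1 = q ^ 2 ∨ u + 1 = q ∨ u = q + 1) → Nat.Coprime u (p ^ e) :=
      fun u e hu => (((hp.coprime_iff_not_dvd).2 fun hd' => hp.one_lt.ne' (Nat.dvd_one.1 (by
        rcases hu with hu | hu | hu
        · have := hpq.trans (dvd_pow_self q two_ne_zero)
          rw [← hu] at this
          exact (Nat.dvd_add_right hd').1 this
        · rw [← hu] at hpq; exact (Nat.dvd_add_right hd').1 hpq
        · rw [hu] at hd'; exact (Nat.dvd_add_right hpq).1 hd'))).symm).pow_right e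
  · -- p(q^2-1)
    obtain ⟨x, hx⟩ := three hH2 hPm 1 1 le_rfl (by simp) (by simp [Nat.even_iff]) hPmd hyp2 hHp2 1
      (by rw [orderOf_one]; exact odd_one) (by norm_num)
    rw [orderOf_one, Nat.lcm_one_right, hHo2, (hcp _ 1 (Or.inl (by omega))).lcm_eq_mul, pow_one] at hx
    exact ⟨x, hn.trans hx⟩
  · rcases hn with hn | hn
    · obtain ⟨x, hx⟩ := three hH1 hPm 2 2 (by omega) (by simp) (by simp [Nat.even_iff]) hPmd hyp1 hHp1 1
        (by rw [orderOf_one]; exact odd_one) (by rw [hp']; norm_num)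
      rw [orderOf_one, Nat.lcm_one_right, hHo1, (hcp _ 2 (Or.inr (Or.inl (by omega)))).lcm_eq_mul]
        at hx
      exact ⟨x, hn.trans hx⟩
    · obtain ⟨x, hx⟩ := three hE1 hPm 2 2 (by omega) (by simp) (by simp [Nat.even_iff]) hPmd ell1 hEp1 1
        (by rw [orderOf_one]; exact odd_one) (by rw [hp']; norm_num)
      rw [orderOf_one, Nat.lcm_one_right, hEo1, (hcp _ 2 (Or.inr (Or.inr rfl))).lcm_eq_mul] at hx
      exact ⟨x, hn.trans hx⟩
  · obtain ⟨z, hz, hzt⟩ := exists_negOne hPp h2 (by simp [Nat.even_iff])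
    rw [hPpd] at hzt
    have hzo : orderOf z = 2 := orderOf_eq_prime (iso_ext fun y => by
      rw [← act_apply, ← act_apply, sq, act_mul, hz, hz, neg_neg, act_one]) fun e => by
      have h' := hz (fun _ => 1)
      rw [e, act_one] at h'
      have := congrFun h' 0
      exact h2 (by simp at this; linear_combination this)
    have h₀ : (QuadraticMap.polarBilin (diagQ (fun _ : Fin 0 => (1 : F)))).Nondegenerate :=
      diagQ_nondeg h2 fun i => one_ne_zero
    obtain ⟨Q₃, h₃, hd3⟩ := exists_form (F := F) h2 3 (by omega) (dchi Q)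
    obtain ⟨h, hh, C, hC, hCd, hCf⟩ := assemble hQ h2 hPp h₀ h₃ (by rw [hcard]; simp)
      (by rw [hPpd, dchi_diag, Finset.univ_eq_empty, Finset.prod_empty, chi_one, hd3, one_mul,
        one_mul]) z 1 (by rw [hzt, map_one, mul_one]; rfl)
    rw [orderOf_one, Nat.lcm_one_right, hzo] at hh
    rw [Fintype.card_fin] at hCd
    obtain ⟨x, hx⟩ := coreA (p := p) hQ h2 h hC (hCd ▸ even_two_mul 3) (by omega) hCf (a := 2)
      (by rw [hCd]; rcases hp' with e | e <;> rw [e] <;> norm_num)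
    refine ⟨x, hn.trans (dvd_trans (dvd_of_eq ?_) hx)⟩
    rw [hh, Nat.Coprime.lcm_eq_mul]
    exact ((hp.odd_of_ne_two fun e => by rcases hp' with e' | e' <;> omega).pow).coprime_two_left

end Cfsg.Agent.Classical.SpectrumNine
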