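import Cfsg.Agent.Lib.Classical.SpectrumNine.Basic
import Cfsg.Agent.Lib.Classical.JordanFormsExist

/-!
# Regular unipotent isometries of odd-dimensional non-singular subspaces
-/

set_option autoImplicit false
set_option linter.unusedSectionVars false

namespace Cfsg.Agent.Classical.SpectrumNine

open Module Matrix Cfsg.Agent.Forms Cfsg.Agent.Forms.QuadStd Cfsg.Agent.Forms.Reflections
open Cfsg.Agent.Classical Cfsg.Agent.Classical.OmegaCrit Cfsg.Agent.Classical.OddOrthSpectrum
open Cfsg.Agent.Classical.RegularUnipotentConj (shift)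

variable {F : Type*} [Field F]

theorem shift_pow_apply (n j : ℕ) (x y : Fin n) :
    ((shift F n) ^ j) x y = if (x : ℕ) + j = y then 1 else 0 := by
  induction j generalizing x with
  | zero => simp [Matrix.one_apply, Fin.ext_iff]
  | succ j ih =>
    rw [pow_succ', Matrix.mul_apply]
    by_cases h : (x : ℕ) + 1 < n
    · rw [Finset.sum_eq_single ⟨(x : ℕ) + 1, h⟩]
      · rw [ih]
        simp [shift, add_assoc, add_comm 1 j]
      · intro z _ hz
        rw [ih, shift, Matrix.of_apply, if_neg fun e => hz (Fin.ext e.symm), zero_mul]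
      · simp
    · rw [if_neg (by omega), Finset.sum_eq_zero]
      intro z _
      rw [ih, shift, Matrix.of_apply, if_neg (by omega), zero_mul]

theorem shiftT_top {m : ℕ} (hm : 0 < m) : ((shift F m)ᵀ) ^ (m - 1) ≠ 0 := fun h => by
  rw [← Matrix.transpose_pow, Matrix.transpose_eq_zero] at h
  have h1 := congrFun (congrFun h ⟨0, hm⟩) ⟨m - 1, by omega⟩
  rw [shift_pow_apply] at h1
  simp at h1

variable [Fintype F] {ι : Type} [Fintype ι] [DecidableEq ι] {Q : QuadraticForm F (ι → F)}

/-- A regular unipotent isometry supported on a non-singular subspace of odd dimension. -/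
theorem exists_regular (hQ : (QuadraticMap.polarBilin Q).Nondegenerate) (h2 : (2 : F) ≠ 0)
    {p : ℕ} [Fact p.Prime] [CharP F p] {C : Submodule F (ι → F)}
    (hC : Bases.NondegOn (polB Q) C) {m : ℕ} (hm : finrank F C = m) (ho : Odd m) :
    ∃ (u : Cfsg.isometryGroup F ⇑Q) (b : ℕ), u ∈ Cfsg.Omega F ⇑Q ∧ orderOf u = p ^ b ∧
      m ≤ p ^ b ∧
      (0 < b → p ^ (b - 1) < m) ∧
      (∀ z, (∀ y ∈ C, polB Q z y = 0) → act u z = z) ∧
      (∀ y ∈ C, act u y ∈ C) ∧
      (∃ y ∈ C, ((actHom Q u - 1) ^ (m - 1)) y ≠ 0) ∧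
      ∀ x, ∃ y ∈ C, ∀ y' ∈ C, polB Q (x - y) y' = 0 := by
  classical
  have hp : p.Prime := Fact.out
  have hm0 : 0 < m := ho.pos
  have : Nonempty (Fin m) := ⟨⟨0, hm0⟩⟩
  obtain ⟨K, hK, hKinv⟩ := JordanFormsExist.exists_symmBlock (F := F) h2 m ho
  set J := Cfsg.jordanBlock m F with hJdef
  set G : Matrix (Fin m) (Fin m) F := K + (1 : F) • Kᵀ with hGdef
  have hGs : Gᵀ = G := by rw [hGdef, one_smul, Matrix.transpose_add, Matrix.transpose_transpose, add_comm]
  have hBC := restrict_nondeg (B := polB Q) polB_symm hC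
  let bC : Basis (Fin m) F C := finBasisOfFinrankEq F C hm
  set d := (Disc.gram ((polB Q).restrict C) bC).det with hd
  have hd0 : d ≠ 0 := Disc.det_gram_ne_zero hBC bC
  set l : F := G.det * d with hl
  have hl0 : l ≠ 0 := mul_ne_zero hK hd0
  have hlG : (l • G).det ≠ 0 := by
    rw [Matrix.det_smul]; exact mul_ne_zero (pow_ne_zero _ hl0) hK
  have hsym : (Matrix.toBilin' (l • G)).IsSymm := ⟨fun u w => by
    rw [Matrix.toBilin'_apply', Matrix.toBilin'_apply', dotProduct_mulVec, ← Matrix.mulVec_transpose,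
      Matrix.transpose_smul, hGs, dotProduct_comm]⟩
  obtain ⟨e₀, he₀⟩ := Disc.exists_isometry h2 (Matrix.toBilin' (l • G)) hsym
    (LinearMap.BilinForm.nondegenerate_toBilin'_iff_det_ne_zero.2 hlG) ((polB Q).restrict C)
    ⟨fun u w => polB_symm.eq u.1 w.1⟩ hBC (by rw [hm, Module.finrank_pi, Fintype.card_fin])
    (Pi.basisFun F (Fin m)) bC (by
      have hg : Disc.gram (Matrix.toBilin' (l • G)) (Pi.basisFun F (Fin m)) = l • G := by
        ext i j; simp [Disc.gram, Matrix.toBilin'_single]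
      obtain ⟨r, hr⟩ := ho
      rw [hg, Matrix.det_smul, Fintype.card_fin, ← hd]
      refine ⟨l ^ (r + 1), ?_⟩
      rw [show l ^ m = l ^ (2 * r + 1) from congrArg (l ^ ·) hr, hl]
      ring)
  let e : (Fin m → F) →ₗ[F] (ι → F) := C.subtype ∘ₗ e₀.toLinearMap
  have heC : ∀ a, e a ∈ C := fun a => (e₀ a).2
  have hesurj : ∀ y ∈ C, ∃ a, e a = y := fun y hy =>
    ⟨e₀.symm ⟨y, hy⟩, congrArg Subtype.val (e₀.apply_symm_apply ⟨y, hy⟩)⟩
  have hinj : Function.Injective e := fun a c h => e₀.injective (Subtype.ext h)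
  have he : ∀ a c, polB Q (e a) (e c) = a ⬝ᵥ ((l • G) *ᵥ c) := fun a c => by
    rw [← Matrix.toBilin'_apply']; exact he₀ a c
  let π : (ι → F) →ₗ[F] (Fin m → F) :=
    Matrix.toLin' ((l • G)⁻¹) ∘ₗ LinearMap.pi fun i => (polB Q).flip (e (Pi.single i 1))
  have hlu : IsUnit (l • G).det := isUnit_iff_ne_zero.2 hlG
  have hπ : ∀ x c, polB Q x (e c) = π x ⬝ᵥ ((l • G) *ᵥ c) := fun x c => by
    rw [dotProduct_mulVec, ← Matrix.mulVec_transpose, Matrix.transpose_smul, hGs]
    simp only [π, LinearMap.comp_apply, Matrix.toLin'_apply, Matrix.mulVec_mulVec,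
      Matrix.mul_nonsing_inv _ hlu, Matrix.one_mulVec]
    have h : ((polB Q) x) ∘ₗ e = dotProductBilin F F (fun i => polB Q x (e (Pi.single i 1))) :=
      LinearMap.pi_ext' fun i => LinearMap.ext_ring (by simp)
    exact LinearMap.congr_fun h c
  have hπe : ∀ a, π (e a) = a := fun a => by
    simp only [π, LinearMap.comp_apply, Matrix.toLin'_apply]
    have h : (LinearMap.pi fun i => (polB Q).flip (e (Pi.single i 1))) (e a) = (l • G) *ᵥ a := by
      funext i
      show polB Q (e a) (e (Pi.single i 1)) = _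
      rw [polB_symm.eq, he, single_dotProduct, one_mul]
    rw [h, Matrix.mulVec_mulVec, Matrix.nonsing_inv_mul _ hlu, Matrix.one_mulVec]
  have horth : ∀ x, ∀ y' ∈ C, polB Q (x - e (π x)) y' = 0 := fun x y' hy' => by
    obtain ⟨c, rfl⟩ := hesurj y' hy'
    rw [map_sub, LinearMap.sub_apply, hπ, he, sub_self]
  let E : Matrix (Fin m) (Fin m) F → Module.End F (ι → F) := fun A => e ∘ₗ Matrix.toLin' A ∘ₗ π
  let ext1 : Matrix (Fin m) (Fin m) F →* Module.End F (ι → F) :=
    { toFun := fun A => 1 + E (A - 1)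
      map_one' := by simp [E]
      map_mul' := fun A B => LinearMap.ext fun x => by
        simp only [E, LinearMap.add_apply, Module.End.one_apply, Module.End.mul_apply,
          LinearMap.comp_apply, Matrix.toLin'_apply]
        simp only [map_add, hπe, Matrix.mulVec_add, Matrix.mulVec_mulVec, Matrix.sub_mulVec,
          Matrix.one_mulVec, map_sub, Matrix.mulVec_sub, sub_mul, one_mul]
        abel }
  have hext : ∀ A x, ext1 A x = x + e ((A - 1) *ᵥ π x) := fun A x => rfl
  have hJinv : ∀ a c : Fin m → F, (J *ᵥ a) ⬝ᵥ ((l • G) *ᵥ (J *ᵥ c)) = a ⬝ᵥ ((l • G) *ᵥ c) :=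
    fun a c => by
      have h1 : Jᵀ * (l • G) * J = l • G := by
        rw [Matrix.mul_smul, Matrix.smul_mul, hGdef, hKinv]
      conv_rhs => rw [← h1, ← Matrix.mulVec_mulVec, ← Matrix.mulVec_mulVec, dotProduct_mulVec,
        Matrix.vecMul_transpose]
  have hTQ : ∀ x, Q (ext1 J x) = Q x := fun x => by
    have h1 : ext1 J x = (x - e (π x)) + e (J *ᵥ π x) := by
      rw [hext, Matrix.sub_mulVec, Matrix.one_mulVec, map_sub]; abel
    have h3 : ∀ a, Q ((x - e (π x)) + e a) = Q (x - e (π x)) + Q (e a) := fun a => by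
      have := horth x (e a) (heC a)
      rw [polB_apply] at this
      rw [QuadraticMap.map_add Q, this, add_zero]
    have h4 : ∀ a c, a ⬝ᵥ ((l • G) *ᵥ a) = c ⬝ᵥ ((l • G) *ᵥ c) → Q (e a) = Q (e c) := fun a c h => by
      rw [← he, ← he, polB_self, polB_self] at h
      exact mul_left_cancel₀ h2 h
    conv_rhs => rw [← sub_add_cancel x (e (π x)), h3]
    rw [h1, h3, h4 _ _ (hJinv _ _)]
  obtain ⟨u, hu⟩ := exists_iso hQ (ext1 J) hTQ
  have hN : J - 1 = (shift F m)ᵀ := by
    rw [hJdef, JordanFormsExist.jordanBlock_eq, add_sub_cancel_left]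
  have hsub : ext1 J - 1 = E (J - 1) := add_sub_cancel_left 1 (E (J - 1))
  have hEpow : ∀ (j : ℕ) (y), ((ext1 J - 1) ^ j) (e y) = e ((J - 1) ^ j *ᵥ y) := fun j y => by
    induction j with
    | zero => simp
    | succ j ih =>
      rw [pow_succ', Module.End.mul_apply, ih, hsub, pow_succ' (J - 1), ← Matrix.mulVec_mulVec]
      simp only [E, LinearMap.comp_apply, Matrix.toLin'_apply, hπe]
  set b := Nat.clog p m with hb
  have hmb : m ≤ p ^ b := Nat.le_pow_clog hp.one_lt m
  have hblt : 0 < b → p ^ (b - 1) < m := fun h => by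
    refine Nat.pow_lt_of_lt_clog ?_
    omega
  have hJp : ∀ i, J ^ p ^ i = 1 + (J - 1) ^ p ^ i := fun i => by
    conv_lhs => rw [← sub_add_cancel J 1, add_pow_char_pow_of_commute p i (Commute.one_right _),
      one_pow, add_comm]
  have hord : orderOf u = p ^ b := by
    rw [← orderOf_act, hu]
    have hbe : (ext1 J) ^ p ^ b = 1 := by
      rw [← map_pow, hJp, hN, ← Nat.sub_add_cancel hmb, pow_add, JordanFormsExist.shiftT_pow,
        mul_zero, add_zero, map_one]
    by_cases hb0 : b = 0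
    · rw [hb0, pow_zero, orderOf_eq_one_iff]
      simpa [hb0] using hbe
    · obtain ⟨b', hb'⟩ : ∃ b', b = b' + 1 := ⟨b - 1, by omega⟩
      rw [hb'] at hbe ⊢
      refine orderOf_eq_prime_pow (fun h1 => ?_) hbe
      rw [← map_pow, hJp] at h1
      refine shiftT_top (F := F) hm0 ?_
      have h5 : (J - 1) ^ p ^ b' = 0 := Matrix.ext_iff_mulVec.2 fun y => by
        have h6 := LinearMap.congr_fun h1 (e y)
        rw [hext, hπe, Module.End.one_apply, add_sub_cancel_left, add_eq_left] at h6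
        rw [Matrix.zero_mulVec]
        exact hinj (h6.trans (map_zero e).symm)
      have hlt : p ^ b' < m := by
        have := hblt (by omega)
        rwa [hb', Nat.add_sub_cancel] at this
      rw [← hN, ← Nat.sub_add_cancel (show p ^ b' ≤ m - 1 by omega), pow_add, h5, mul_zero]
  refine ⟨u, b, mem_omega_of_odd hQ h2 ((hp.odd_of_ne_two fun h => h2 ?_).pow (n := b))
      (hord ▸ pow_orderOf_eq_one u), hord, hmb, hblt, fun z hz => ?_, fun y hy => ?_, ?_,
    fun x => ⟨e (π x), heC _, horth x⟩⟩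
  · have := CharP.cast_eq_zero F p
    rw [h] at this
    exact_mod_cast this
  · have hz0 : π z = 0 := by
      refine hinj ?_
      rw [map_zero]
      refine hC _ (heC _) fun y hy => ?_
      have h1 := horth z y hy
      rw [map_sub, LinearMap.sub_apply, hz y hy, zero_sub, neg_eq_zero] at h1
      exact h1
    show actHom Q u z = z
    rw [hu, hext, hz0, Matrix.mulVec_zero, map_zero, add_zero]
  · show actHom Q u y ∈ C
    rw [hu, hext]
    exact C.add_mem hy (heC _)
  · obtain ⟨y, hy⟩ : ∃ y, (J - 1) ^ (m - 1) *ᵥ y ≠ 0 := by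
      by_contra hall
      push Not at hall
      exact shiftT_top (F := F) hm0 (hN ▸ Matrix.ext_iff_mulVec.2 fun y => by
        rw [hall y, Matrix.zero_mulVec])
    refine ⟨e y, heC y, fun h => hy (hinj ?_)⟩
    rw [hu, hEpow] at h
    rw [h, map_zero]

end Cfsg.Agent.Classical.SpectrumNine
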